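import Mathlib.CategoryTheory.Abelian.RightDerived
import Mathlib.Algebra.Homology.QuasiIso

/-!
Right derived functors of an exact functor preserving injectives followed by a functor.
-/

universe v v' v'' u u' u''

open CategoryTheory CategoryTheory.Limits

namespace Groth.Agent.LocCohZ46

variable {A : Type u} [Category.{v} A] [Abelian A] [EnoughInjectives A]
  {B : Type u'} [Category.{v'} B] [Abelian B] [EnoughInjectives B]
  {B' : Type u''} [Category.{v''} B'] [Abelian B']
  (F : A ⥤ B) [F.Additive] [F.PreservesHomology]
  (hF : ∀ I : A, Injective I → Injective (F.obj I))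

/-- The image of an injective resolution. -/
noncomputable def mapRes {X : A} (P : InjectiveResolution X) : InjectiveResolution (F.obj X) where
  cocomplex := (F.mapHomologicalComplex _).obj P.cocomplex
  injective n := hF _ (P.injective n)
  ι := (HomologicalComplex.singleMapHomologicalComplex F (ComplexShape.up ℕ) 0).inv.app X ≫
    (F.mapHomologicalComplex _).map P.ι
  quasiIso := inferInstance

lemma mapRes_ι_f_zero {X : A} (P : InjectiveResolution X) :
    (mapRes F hF P).ι.f 0 = F.map (P.ι.f 0) :=
  (congrArg (· ≫ F.map (P.ι.f 0))
    (show ((HomologicalComplex.singleMapHomologicalComplex F (ComplexShape.up ℕ) 0).inv.app X).f 0 =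
      𝟙 _ by simp)).trans (Category.id_comp _)

variable (G : B ⥤ B') [G.Additive]

/-- Right derived functors commute with a preceding exact functor preserving injectives. -/
noncomputable def rightDerivedPreExactIso (n : ℕ) :
    (F ⋙ G).rightDerived n ≅ F ⋙ G.rightDerived n :=
  NatIso.ofComponents
    (fun X => (injectiveResolution X).isoRightDerivedObj (F ⋙ G) n ≪≫
      ((mapRes F hF (injectiveResolution X)).isoRightDerivedObj G n).symm)
    (fun {X Y} f => by
      let φ := InjectiveResolution.desc f (injectiveResolution Y) (injectiveResolution X)
      have comm : (injectiveResolution X).ι.f 0 ≫ φ.f 0 = f ≫ (injectiveResolution Y).ι.f 0 :=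
        (HomologicalComplex.congr_hom (InjectiveResolution.desc_commutes f
          (injectiveResolution Y) (injectiveResolution X)) 0).trans (by simp)
      have comm' : (mapRes F hF (injectiveResolution X)).ι.f 0 ≫
          ((F.mapHomologicalComplex _).map φ).f 0 =
            F.map f ≫ (mapRes F hF (injectiveResolution Y)).ι.f 0 := by
        rw [mapRes_ι_f_zero, mapRes_ι_f_zero]
        exact (F.map_comp _ _).symm.trans ((congrArg F.map comm).trans (F.map_comp _ _))
      rw [Iso.trans_hom, Iso.trans_hom,
        InjectiveResolution.isoRightDerivedObj_hom_naturality_assoc f (injectiveResolution X)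
          (injectiveResolution Y) φ comm, Category.assoc]
      congr 1
      exact (InjectiveResolution.isoRightDerivedObj_inv_naturality (F.map f)
        (mapRes F hF (injectiveResolution X)) (mapRes F hF (injectiveResolution Y))
        ((F.mapHomologicalComplex (ComplexShape.up ℕ)).map φ :
          (mapRes F hF (injectiveResolution X)).cocomplex ⟶
            (mapRes F hF (injectiveResolution Y)).cocomplex) comm' G n).symm)

end Groth.Agent.LocCohZ46
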