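import Groth.Agent.TopCoh49.Inst
import Groth.Agent.SiteCoh.Over
import Groth.Prelude.Def_CohCx
import Mathlib.Topology.Sheaves.Over

/-!
Restriction of abelian sheaves to an open subspace: exactness, injectives, and the adjunction
with direct image.
-/

universe u

open CategoryTheory CategoryTheory.Limits TopologicalSpace Opposite

namespace Groth.Agent.LocCohZ46

variable {X : TopCat.{u}} (U : Opens X)

/-- The image of an open of the subspace `U`. -/
abbrev imU (W : Opens (TopCat.of U)) : Opens X :=
  U.isOpenEmbedding.isOpenMap.functor.obj W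

lemma imU_mono {W W' : Opens (TopCat.of U)} (h : W ≤ W') : imU U W ≤ imU U W' :=
  fun _ ⟨x, hx, e⟩ => ⟨x, h hx, e⟩

lemma imU_map (V : Opens X) : imU U ((Opens.map (CohCx.incl U)).obj V) = V ⊓ U := by
  ext x
  constructor
  · rintro ⟨y, hy, rfl⟩
    exact ⟨hy, y.2⟩
  · rintro ⟨hx, hxU⟩
    exact ⟨⟨x, hxU⟩, hx, rfl⟩

lemma map_imU (W : Opens (TopCat.of U)) : (Opens.map (CohCx.incl U)).obj (imU U W) = W := by
  ext x
  constructor
  · rintro ⟨y, hy, e⟩
    obtain rfl : y = x := Subtype.ext e
    exact hy
  · exact fun hx => ⟨x, hx, rfl⟩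

instance preservesFiniteLimits_restr : PreservesFiniteLimits (CohTop.restrFunctor U) :=
  preservesFiniteLimits_of_natIso (U.overPullbackSheafEquivOver (A := AddCommGrpCat.{u}))

instance preservesFiniteColimits_restr : PreservesFiniteColimits (CohTop.restrFunctor U) :=
  preservesFiniteColimits_of_natIso (U.overPullbackSheafEquivOver (A := AddCommGrpCat.{u}))

theorem injective_restr (I : CohTop.Ab X) [Injective I] : Injective (CohTop.restr I U) :=
  Injective.of_iso ((U.overPullbackSheafEquivOver (A := AddCommGrpCat.{u})).app I)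
    ((U.sheafEquivOver (A := AddCommGrpCat.{u})).symm.toAdjunction.map_injective _
      (inferInstanceAs (Injective (I.over U))))

section Adjunction

variable {U}

lemma map_map_eq {Z : TopCat.{u}} (F : CohTop.Ab Z) {A B B' C : (Opens Z)ᵒᵖ} (f : A ⟶ B)
    (g : B ⟶ C) (f' : A ⟶ B') (g' : B' ⟶ C) (s : F.obj.obj A) :
    F.obj.map g (F.obj.map f s) = F.obj.map g' (F.obj.map f' s) := by
  rw [← Functor.map_comp_apply, ← Functor.map_comp_apply]
  congr 3

variable (U)

/-- Restriction of sections to the traces on `U`. -/
noncomputable def unitRes :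
    𝟭 (CohTop.Ab X) ⟶ CohTop.restrFunctor U ⋙ CohTop.push (CohCx.incl U) where
  app F := ⟨
    { app := fun V => F.obj.map (homOfLE ((imU_map U V.unop).trans_le inf_le_left)).op
      naturality := fun V V' i => by
        refine (F.obj.map_comp _ _).symm.trans (Eq.trans ?_ (F.obj.map_comp _ _))
        congr 1 }⟩
  naturality F G φ := by
    ext V : 3
    exact (φ.hom.naturality _).symm

/-- Forgetting that sections live on the image of an open of `U`. -/
noncomputable def counitRes :
    CohTop.push (CohCx.incl U) ⋙ CohTop.restrFunctor U ⟶ 𝟭 (CohTop.Ab (TopCat.of U)) where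
  app G := ⟨
    { app := fun W => G.obj.map (homOfLE (map_imU U W.unop).ge).op
      naturality := fun W W' i => by
        refine (G.obj.map_comp _ _).symm.trans (Eq.trans ?_ (G.obj.map_comp _ _))
        congr 1 }⟩
  naturality G H φ := by
    ext W : 3
    exact (φ.hom.naturality _).symm

/-- Restriction to an open is left adjoint to direct image. -/
noncomputable def restrAdj : CohTop.restrFunctor U ⊣ CohTop.push (CohCx.incl U) where
  unit := unitRes U
  counit := counitRes U
  left_triangle_components F := by
    ext W : 3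
    refine (F.obj.map_comp _ _).symm.trans (Eq.trans ?_ (F.obj.map_id _))
    congr 1
  right_triangle_components G := by
    ext V : 3
    refine (G.obj.map_comp _ _).symm.trans (Eq.trans ?_ (G.obj.map_id _))
    congr 1

lemma unit_app_eq_zero_iff (F : CohTop.Ab X) (V : Opens X) (t : F.obj.obj (op V)) :
    ((TopCat.Sheaf.pullbackPushforwardAdjunction AddCommGrpCat.{u} (CohCx.incl U)).unit.app
        F).hom.app (op V) t = 0 ↔
      F.obj.map (homOfLE (inf_le_left : V ⊓ U ≤ V)).op t = 0 := by
  let adj := TopCat.Sheaf.pullbackPushforwardAdjunction AddCommGrpCat.{u} (CohCx.incl U)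
  let e := (adj.leftAdjointUniq (restrAdj U)).app F
  have h : adj.unit.app F ≫ (CohTop.push (CohCx.incl U)).map e.hom = (unitRes U).app F :=
    adj.unit_leftAdjointUniq_hom_app (restrAdj U) F
  have h2 := ConcreteCategory.congr_hom (NatTrans.congr_app (congrArg (fun φ => φ.hom) h) (op V)) t
  have hinj : Function.Injective (e.hom.hom.app (op ((Opens.map (CohCx.incl U)).obj V))) := by
    have : IsIso ((sheafToPresheaf _ AddCommGrpCat.{u} ⋙
      (evaluation _ _).obj (op ((Opens.map (CohCx.incl U)).obj V))).map e.hom) := inferInstance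
    exact (ConcreteCategory.bijective_of_isIso _).1
  constructor
  · intro ht
    have h3 : ((unitRes U).app F).hom.app (op V) t = 0 :=
      h2.symm.trans
        ((congrArg (e.hom.hom.app (op ((Opens.map (CohCx.incl U)).obj V))) ht).trans
          (map_zero (e.hom.hom.app (op ((Opens.map (CohCx.incl U)).obj V))).hom))
    have hle : V ⊓ U ≤ imU U ((Opens.map (CohCx.incl U)).obj V) := (imU_map U V).ge
    refine Eq.trans ?_ ((congrArg (F.obj.map (homOfLE hle).op) h3).trans (map_zero _))
    refine Eq.trans ?_ (Functor.map_comp_apply F.obj _ _ t)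
    congr 3
  · intro ht
    refine hinj ((h2.trans ?_).trans (map_zero _).symm)
    have hle : imU U ((Opens.map (CohCx.incl U)).obj V) ≤ V ⊓ U := (imU_map U V).le
    refine Eq.trans ?_ ((congrArg (F.obj.map (homOfLE hle).op) ht).trans (map_zero _))
    refine Eq.trans ?_ (Functor.map_comp_apply F.obj _ _ t)
    congr 3

end Adjunction

end Groth.Agent.LocCohZ46
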