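import Groth.Agent.LocCohZ46.Basic
import Groth.Agent.TopCoh49.Compare
import Mathlib.CategoryTheory.Limits.FunctorCategory.Basic

/-!
Vanishing of local cohomology sheaves versus vanishing of cohomology with supports on all opens.
-/

universe u

open CategoryTheory CategoryTheory.Limits TopologicalSpace Opposite CategoryTheory.Abelian
open Groth.Agent.TopCoh49

namespace Groth.Agent.LocCohZ46

variable {X : TopCat.{u}} {U : Opens X}

instance preservesFiniteLimits_homPre_zqFun (U : Opens X) :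
    PreservesFiniteLimits (SiteCoh.homPre (zqFun U)) :=
  ⟨fun K _ _ => preservesLimitsOfShape_of_evaluation _ K fun V =>
    preservesLimitsOfShape_of_natIso (F := preadditiveCoyoneda.obj (op ((zqFun U).obj V.unop)))
      (NatIso.ofComponents (fun B => Iso.refl _))⟩

instance preservesFiniteLimits_sectSuppF (U : Opens X) :
    PreservesFiniteLimits (LocCohZ.sectSuppF U) := by
  have : PreservesFiniteLimits (presheafToSheaf (Opens.grothendieckTopology X) AddCommGrpCat.{u}) :=
    inferInstance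
  have := comp_preservesFiniteLimits (SiteCoh.homPre (zqFun U))
    (presheafToSheaf (Opens.grothendieckTopology X) AddCommGrpCat.{u})
  exact preservesFiniteLimits_of_natIso (sheafifyIso _ (SiteCoh.homPre (zqFun U)) (suppPreIso U))

variable (U)

/-- Restriction of classes with supports. -/
noncomputable abbrev rZ {V V' : Opens X} (hV : V' ≤ V) {F : CohTop.Ab X} {i : ℕ}
    (x : Hz (inf_le_left : V ⊓ U ≤ V) F i) : Hz (inf_le_left : V' ⊓ U ≤ V') F i :=
  (Ext.mk₀ (LocCohZ.zqMap (inf_le_left : V ⊓ U ≤ V) (inf_le_left : V' ⊓ U ≤ V')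
    (inf_le_inf_right U hV) hV)).comp x (zero_add i)

variable {U}

lemma toE_rZ {V V' : Opens X} (hV : V' ≤ V) {F : CohTop.Ab X} {i : ℕ}
    (x : Hz (inf_le_left : V ⊓ U ≤ V) F i) :
    toE _ F i (rZ U hV x) = eres F i hV (toE _ F i x) := by
  change (Ext.mk₀ (zqπ _)).comp ((Ext.mk₀ _).comp x (zero_add i)) (zero_add i) =
    (Ext.mk₀ _).comp ((Ext.mk₀ (zqπ _)).comp x (zero_add i)) (zero_add i)
  rw [Ext.mk₀_comp_mk₀_assoc, Ext.mk₀_comp_mk₀_assoc, zqπ_zqMap]

/-- All classes of degree `i` are locally zero. -/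
def LocZero (U : Opens X) (F : CohTop.Ab X) (i : ℕ) : Prop :=
  ∀ (V : Opens X) (x : Hz (inf_le_left : V ⊓ U ≤ V) F i) (p : X), p ∈ V →
    ∃ (V' : Opens X) (hV : V' ≤ V), p ∈ V' ∧ rZ U hV x = 0

lemma locZero_iff (F : CohTop.Ab X) (i : ℕ) :
    IsZero ((LocCohZ.HZsh U i).obj F) ↔ LocZero U F i :=
  ⟨fun h V x p hp => locally_zero_of_isZero_sheafify ((SiteCoh.extPre (zqFun U) i).obj F)
      (IsZero.of_iso h ((HZshIso U i).app F).symm) V x p hp,
    fun h => isZero_HZsh_of_locally_zero U F i h⟩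

lemma locZero_of_subsingleton {F : CohTop.Ab X} {i : ℕ}
    (h : ∀ V : Opens X, Subsingleton (Hz (inf_le_left : V ⊓ U ≤ V) F i)) : LocZero U F i :=
  fun V _ p hp => ⟨V, le_rfl, hp, (h V).elim _ _⟩

lemma subsingleton_zero {F : CohTop.Ab X} (h : LocZero U F 0) (V : Opens X) :
    Subsingleton (Hz (inf_le_left : V ⊓ U ≤ V) F 0) := by
  refine subsingleton_of_forall_eq 0 fun x => toE_injective_zero _ F ?_
  rw [map_zero]
  choose V' hV hp h0 using fun p : V => h V x p.1 p.2
  apply (E₀ F V).injective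
  rw [map_zero]
  refine TopCat.Sheaf.eq_of_locally_eq' (C := AddCommGrpCat.{u}) (X := X) F V' V
    (fun p => homOfLE (hV p)) (fun p hp' => Opens.mem_iSup.2 ⟨⟨p, hp'⟩, hp ⟨p, hp'⟩⟩) _ _ fun p => ?_
  refine (E₀_eres F (hV p) _).symm.trans (Eq.trans ?_ (map_zero (F.obj.map _).hom).symm)
  rw [← toE_rZ, h0 p, map_zero, map_zero]

lemma isFlasque_under (G : CohTop.Ab X) : TopCat.Sheaf.IsFlasque (Injective.under G) :=
  @isFlasque_of_injective _ (Injective.under G) (Injective.injective_under G)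

section Shift

variable (G : CohTop.Ab X)

/-- The connecting map of the injective embedding, on classes with supports. -/
noncomputable abbrev shift (V : Opens X) (i : ℕ) :
    Hz (inf_le_left : V ⊓ U ≤ V) (injSES G).X₃ i →+ Hz (inf_le_left : V ⊓ U ≤ V) G (i + 1) :=
  (injSES_shortExact G).extClass.postcomp (LocCohZ.zq (inf_le_left : V ⊓ U ≤ V)) rfl

lemma shift_rZ {V V' : Opens X} (hV : V' ≤ V) (i : ℕ)
    (y : Hz (inf_le_left : V ⊓ U ≤ V) (injSES G).X₃ i) :
    shift G V' i (rZ U hV y) = rZ U hV (shift G V i y) :=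
  Ext.comp_assoc (Ext.mk₀ _) y _ (zero_add i) rfl (by omega)

lemma shift_surjective (V : Opens X) (i : ℕ) : Function.Surjective (shift (U := U) G V i) := fun x =>
  Ext.covariant_sequence_exact₁ _ (injSES_shortExact G) x
    (Ext.eq_zero_of_injective (I := Injective.under G) _) rfl

lemma shift_injective (V : Opens X) (i : ℕ) : Function.Injective (shift (U := U) G V (i + 1)) := by
  refine (injective_iff_map_eq_zero _).2 fun y hy => ?_
  obtain ⟨z, hz⟩ := Ext.covariant_sequence_exact₃ _ (injSES_shortExact G) y rfl hy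
  have hz0 : z = 0 := Ext.eq_zero_of_injective (I := Injective.under G) z
  rw [← hz, hz0, Ext.zero_comp]

lemma exists_lift_of_shift_eq_zero (V : Opens X)
    (y : Hz (inf_le_left : V ⊓ U ≤ V) (injSES G).X₃ 0) (hy : shift G V 0 y = 0) :
    ∃ φ : LocCohZ.zq (inf_le_left : V ⊓ U ≤ V) ⟶ (injSES G).X₂,
      y = Ext.mk₀ (φ ≫ (injSES G).g) := by
  obtain ⟨z, hz⟩ := Ext.covariant_sequence_exact₃ _ (injSES_shortExact G) y rfl hy
  obtain ⟨φ, rfl⟩ := (Ext.mk₀_bijective _ _).2 z
  rw [Ext.mk₀_comp_mk₀] at hz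
  exact ⟨φ, hz.symm⟩

lemma supp_shortExact (hloc : LocZero U G 1) :
    ((injSES G).map (LocCohZ.sectSuppF U)).ShortExact where
  exact := (injSES_shortExact G).exact.map_of_mono_of_preservesKernel _
    (injSES_shortExact G).mono_f inferInstance
  mono_f := by
    have := (injSES_shortExact G).mono_f
    have : (LocCohZ.sectSuppF U).PreservesMonomorphisms :=
      preservesMonomorphisms_of_preservesLimitsOfShape _
    exact (LocCohZ.sectSuppF U).map_mono (injSES G).f
  epi_g := epi_of_locally_surjective _ fun V s p hp => by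
    obtain ⟨φ, hφ⟩ := (suppEquiv U (injSES G).X₃ V).surjective s
    obtain ⟨V', hV, hp', h0⟩ := hloc V (shift G V 0 (Ext.mk₀ φ)) p hp
    rw [← shift_rZ] at h0
    obtain ⟨ψ, hψ⟩ := exists_lift_of_shift_eq_zero G V' _ h0
    refine ⟨V', hV, hp', suppEquiv U (injSES G).X₂ V' ψ, ?_⟩
    rw [← hφ]
    have hψ' : ψ ≫ (injSES G).g = (zqFun U).map (homOfLE hV) ≫ φ := by
      refine (Ext.mk₀_bijective _ _).1 (hψ.symm.trans ?_)
      exact Ext.mk₀_comp_mk₀ _ _
    have n₁ := ConcreteCategory.congr_hom (NatTrans.congr_app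
      ((suppPreIso U).hom.naturality (injSES G).g) (op V')) ψ
    have n₂ := ((suppPreIso U).hom.app (injSES G).X₃).naturality_apply (homOfLE hV).op φ
    exact (n₁.symm.trans (congrArg (suppEquiv U (injSES G).X₃ V') hψ')).trans n₂

theorem subsingleton_one (hfl : TopCat.Sheaf.IsFlasque ((LocCohZ.sectSuppF U).obj G))
    (hloc : LocZero U G 1) (V : Opens X) :
    Subsingleton (Hz (inf_le_left : V ⊓ U ≤ V) G 1) := by
  refine subsingleton_of_forall_eq 0 fun x => ?_
  obtain ⟨y, rfl⟩ := shift_surjective G V 0 x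
  obtain ⟨φ, rfl⟩ := (Ext.mk₀_bijective _ _).2 y
  have : TopCat.Sheaf.IsFlasque ((injSES G).map (LocCohZ.sectSuppF U)).X₁ := hfl
  obtain ⟨t, ht⟩ := (AddCommGrpCat.epi_iff_surjective _).1
    (TopCat.Sheaf.IsFlasque.epi_of_shortExact (U := V) (supp_shortExact G hloc))
      (suppEquiv U (injSES G).X₃ V φ)
  obtain ⟨ψ, rfl⟩ := (suppEquiv U (injSES G).X₂ V).surjective t
  have n₁ := ConcreteCategory.congr_hom (NatTrans.congr_app
    ((suppPreIso U).hom.naturality (injSES G).g) (op V)) ψ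
  have : ψ ≫ (injSES G).g = φ := (suppEquiv U (injSES G).X₃ V).injective (n₁.trans ht)
  subst this
  refine Eq.trans (congrArg (shift (U := U) G V 0)
    (Ext.mk₀_comp_mk₀ (show LocCohZ.zq (inf_le_left : V ⊓ U ≤ V) ⟶ _ from ψ) (injSES G).g).symm) ?_
  change ((Ext.mk₀ ψ).comp (Ext.mk₀ (injSES G).g) (add_zero 0)).comp
    (injSES_shortExact G).extClass (rfl : 0 + 1 = 0 + 1) = 0
  rw [Ext.comp_assoc _ _ _ (add_zero 0) (zero_add 1) (by omega),
    (injSES_shortExact G).comp_extClass]
  exact Ext.comp_zero _ _ _ _ _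

end Shift

theorem subsingleton_of_locZero (n : ℕ) : ∀ (G : CohTop.Ab X),
    TopCat.Sheaf.IsFlasque ((LocCohZ.sectSuppF U).obj G) → (∀ i < n, LocZero U G (i + 1)) →
    ∀ (V : Opens X) (i : ℕ), i < n → Subsingleton (Hz (inf_le_left : V ⊓ U ≤ V) G (i + 1)) := by
  induction n with
  | zero => exact fun G _ _ V i hi => absurd hi (Nat.not_lt_zero i)
  | succ n ih =>
    intro G hfl hloc V i hi
    cases i with
    | zero => exact subsingleton_one G hfl (hloc 0 hi) V
    | succ i =>
      have hS := supp_shortExact G (hloc 0 (Nat.succ_pos n))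
      have : TopCat.Sheaf.IsFlasque ((injSES G).map (LocCohZ.sectSuppF U)).X₁ := hfl
      have hI : TopCat.Sheaf.IsFlasque (Injective.under G) := isFlasque_under G
      have : TopCat.Sheaf.IsFlasque ((injSES G).map (LocCohZ.sectSuppF U)).X₂ :=
        @isFlasque_sectSupp _ (Injective.under G) hI U
      have hQ := TopCat.Sheaf.IsFlasque.of_shortExact_of_isFlasque₁₂ hS
      have := ih (injSES G).X₃ hQ (fun j hj W y p hp => by
        obtain ⟨W', hW, hp', h0⟩ := hloc (j + 1) (Nat.succ_lt_succ hj) W (shift G W (j + 1) y) p hp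
        rw [← shift_rZ] at h0
        exact ⟨W', hW, hp', shift_injective G W' j (h0.trans (map_zero _).symm)⟩) V i
          (Nat.lt_of_succ_lt_succ hi)
      exact (shift_surjective G V (i + 1)).subsingleton

theorem locZero_iff_subsingleton (F : CohTop.Ab X) (n : ℕ) :
    (∀ i < n, IsZero ((LocCohZ.HZsh U i).obj F)) ↔
      ∀ (V : Opens X) (i : ℕ), i < n → Subsingleton (Hz (inf_le_left : V ⊓ U ≤ V) F i) := by
  refine ⟨fun h V i hi => ?_, fun h i hi => (locZero_iff F i).2
    (locZero_of_subsingleton fun V => h V i hi)⟩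
  have h0 := fun W => subsingleton_zero ((locZero_iff F 0).1 (h 0 (Nat.zero_lt_of_lt hi))) W
  cases i with
  | zero => exact h0 V
  | succ i =>
    refine subsingleton_of_locZero (n - 1) F ⟨fun {W W'} j => ?_⟩ (fun k hk =>
      (locZero_iff F (k + 1)).1 (h (k + 1) (by omega))) V i (by omega)
    rw [AddCommGrpCat.epi_iff_surjective]
    intro s
    refine ⟨0, ?_⟩
    obtain ⟨φ, rfl⟩ := (suppEquiv U F W'.unop).surjective s
    have e : φ = 0 := (Ext.mk₀_bijective _ _).1 ((h0 W'.unop).elim _ _)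
    rw [e]
    exact (map_zero (((LocCohZ.sectSuppF U).obj F).obj.map j).hom).trans
      (map_zero (suppEquiv U F W'.unop)).symm

lemma subsingleton_of_res (F : CohTop.Ab X) {i : ℕ} (V : Opens X)
    (hi : Function.Injective (eres F i (inf_le_left : V ⊓ U ≤ V)))
    (hs : ∀ j, j + 1 = i → Function.Surjective (eres F j (inf_le_left : V ⊓ U ≤ V))) :
    Subsingleton (Hz (inf_le_left : V ⊓ U ≤ V) F i) := by
  refine subsingleton_of_forall_eq 0 fun x => ?_
  have hx : toE _ F i x = 0 := hi ((eres_toE _ F x).trans (map_zero _).symm)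
  cases i with
  | zero => exact toE_injective_zero _ F (hx.trans (map_zero _).symm)
  | succ j =>
    obtain ⟨w, rfl⟩ := exact_HZ _ F x hx
    obtain ⟨y, rfl⟩ := hs j rfl w
    exact dl_eres _ F y

theorem bijective_res_iff (F : CohTop.Ab X) (N : ℕ) :
    (∀ i : ℕ, i ≤ N → IsZero ((LocCohZ.HZsh U i).obj F)) ↔
      ∀ V : Opens X, (∀ i : ℕ, i < N → Function.Bijective (CohTop.res F i (inf_le_left : V ⊓ U ≤ V))) ∧
        Function.Injective (CohTop.res F N (inf_le_left : V ⊓ U ≤ V)) := by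
  have hres : ∀ (i : ℕ) (V : Opens X), (CohTop.res F i (inf_le_left : V ⊓ U ≤ V) : E F i V → E F i (V ⊓ U)) =
      eres F i (inf_le_left : V ⊓ U ≤ V) := fun i V => funext (res_eq_eres F i _)
  constructor
  · intro h V
    have hP := fun i (hi : i ≤ N) => (locZero_iff_subsingleton F (N + 1)).1
      (fun j hj => h j (Nat.lt_succ_iff.1 hj)) V i (Nat.lt_succ_iff.2 hi)
    have hinj : ∀ i ≤ N, Function.Injective (eres F i (inf_le_left : V ⊓ U ≤ V)) := fun i hi =>
      (injective_iff_map_eq_zero _).2 fun y hy => by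
        obtain ⟨x, rfl⟩ := exact_HV _ F y hy
        rw [(hP i hi).elim x 0, map_zero]
    refine ⟨fun i hi => ?_, ?_⟩
    · change Function.Bijective (CohTop.res F i (inf_le_left : V ⊓ U ≤ V) : E F i V → E F i (V ⊓ U))
      rw [hres]
      exact ⟨hinj i hi.le, fun w => exact_HW _ F w ((hP (i + 1) hi).elim _ _)⟩
    · change Function.Injective (CohTop.res F N (inf_le_left : V ⊓ U ≤ V) : E F N V → E F N (V ⊓ U))
      rw [hres]
      exact hinj N le_rfl
  · intro h i hi
    refine (locZero_iff F i).2 (locZero_of_subsingleton fun V => ?_)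
    have hb : ∀ j < N, Function.Bijective (eres F j (inf_le_left : V ⊓ U ≤ V)) := fun j hj => by
      rw [← hres]
      exact (h V).1 j hj
    refine subsingleton_of_res F V ?_ fun j hj => (hb j (by omega)).2
    rcases hi.lt_or_eq with hi' | rfl
    · exact (hb i hi').1
    · rw [← hres]
      exact (h V).2

theorem isZero_of_bijective_res (F : CohTop.Ab X) (N : ℕ) (hN : 0 < N)
    (h : ∀ (V : Opens X) (i : ℕ), i < N → Function.Bijective (CohTop.res F i (inf_le_left : V ⊓ U ≤ V))) :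
    ∀ i : ℕ, i ≤ N → IsZero ((LocCohZ.HZsh U i).obj F) := by
  have hb : ∀ (V : Opens X), ∀ j < N, Function.Bijective (eres F j (inf_le_left : V ⊓ U ≤ V)) :=
    fun V j hj => by
      rw [← show (CohTop.res F j (inf_le_left : V ⊓ U ≤ V) : E F j V → E F j (V ⊓ U)) =
        eres F j (inf_le_left : V ⊓ U ≤ V) from funext (res_eq_eres F j _)]
      exact h V j hj
  intro i hi
  refine (locZero_iff F i).2 fun V x p hp => ?_
  rcases hi.lt_or_eq with hi' | rfl
  · exact ⟨V, le_rfl, hp,
      (subsingleton_of_res F V (hb V i hi').1 fun j hj => (hb V j (by omega)).2).elim _ _⟩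
  · obtain ⟨j, rfl⟩ := Nat.exists_eq_succ_of_ne_zero hN.ne'
    obtain ⟨W, hW, hsup, h0⟩ := kill_class j F V (toE _ F (j + 1) x)
    obtain ⟨k, hk⟩ := Opens.mem_iSup.1 (hsup.ge hp)
    refine ⟨W k, hW k, hk, ?_⟩
    obtain ⟨w, hw⟩ := exact_HZ _ F (rZ U (hW k) x) ((toE_rZ (hW k) x).trans (h0 k))
    obtain ⟨y, rfl⟩ := (hb (W k) j (Nat.lt_succ_self j)).2 w
    exact hw.symm.trans (dl_eres _ F y)

end Groth.Agent.LocCohZ46
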