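import Groth.Agent.LocCohZ46.Sheaf
import Groth.Agent.SiteCoh.ExtCompare
import Groth.Agent.TopCoh49.StalkPull
import Groth.Agent.TopCoh49.Basic2

/-!
Cohomology with supports on an open subspace, and sheaves supported in a closed subspace.
-/

universe u

open CategoryTheory CategoryTheory.Limits TopologicalSpace Opposite CategoryTheory.Abelian
open Groth.Agent.TopCoh49

namespace Groth.Agent.LocCohZ46

variable {X : TopCat.{u}}

section Restrict

variable {W V : Opens X} (h : W ≤ V)

lemma imU_top_le : imU V ⊤ ≤ V := fun _ ⟨y, _, e⟩ => e ▸ y.2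

lemma le_imU_top : V ≤ imU V ⊤ := fun x hx => ⟨⟨x, hx⟩, trivial, rfl⟩

lemma pairSect_res :
    (CohTop.restr (LocCohZ.zq h) V).obj.map
        (homOfLE (le_top : (Opens.map (CohCx.incl V)).obj W ≤ ⊤)).op
      ((LocCohZ.zq h).obj.map (homOfLE (imU_top_le (V := V))).op (sig h (𝟙 (LocCohZ.zq h)))) = 0 := by
  have hle : imU V ((Opens.map (CohCx.incl V)).obj W) ≤ W := (imU_map V W).trans_le inf_le_left
  refine Eq.trans ?_ ((congrArg ((LocCohZ.zq h).obj.map (homOfLE hle).op)
    (sig_res h (𝟙 (LocCohZ.zq h)))).trans (map_zero _))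
  exact map_map_eq (LocCohZ.zq h) _ _ _ _ _

/-- The tautological map from the pair on the subspace to the restriction of the pair. -/
noncomputable def pairRestr :
    LocCohZ.zq (le_top : (Opens.map (CohCx.incl V)).obj W ≤ ⊤) ⟶ CohTop.restr (LocCohZ.zq h) V :=
  (exists_sig _ _ (pairSect_res h)).choose

lemma sig_pairRestr :
    sig (le_top : (Opens.map (CohCx.incl V)).obj W ≤ ⊤) (pairRestr h) =
      (LocCohZ.zq h).obj.map (homOfLE (imU_top_le (V := V))).op (sig h (𝟙 (LocCohZ.zq h))) :=
  (exists_sig _ _ (pairSect_res h)).choose_spec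

lemma sig_pairRestr_map (F : CohTop.Ab X) (φ : LocCohZ.zq h ⟶ F) :
    sig (le_top : (Opens.map (CohCx.incl V)).obj W ≤ ⊤)
        (pairRestr h ≫ (CohTop.restrFunctor V).map φ) =
      F.obj.map (homOfLE (imU_top_le (V := V))).op (sig h φ) := by
  refine (sig_comp _ _ _).trans ?_
  rw [sig_pairRestr]
  refine (φ.hom.naturality_apply _ _).trans (congrArg _ ?_)
  exact (sig_comp h (𝟙 (LocCohZ.zq h)) φ).symm.trans (congrArg (sig h) (Category.id_comp φ))

lemma bijective_pairRestr (F : CohTop.Ab X) :
    Function.Bijective fun φ : LocCohZ.zq h ⟶ F => pairRestr h ≫ (CohTop.restrFunctor V).map φ := by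
  constructor
  · intro φ ψ e
    apply sig_injective h
    have e' := congrArg (sig (le_top : (Opens.map (CohCx.incl V)).obj W ≤ ⊤)) e
    rw [sig_pairRestr_map, sig_pairRestr_map] at e'
    have key : ∀ s : F.obj.obj (op V), F.obj.map (homOfLE (le_imU_top (V := V))).op
        (F.obj.map (homOfLE (imU_top_le (V := V))).op s) = s := fun s =>
      (Functor.map_comp_apply F.obj _ _ s).symm.trans
        (ConcreteCategory.congr_hom ((congrArg F.obj.map (Subsingleton.elim _ (𝟙 _))).trans
          (F.obj.map_id _)) s)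
    exact (key _).symm.trans ((congrArg _ e').trans (key _))
  · intro χ
    let s := sig (le_top : (Opens.map (CohCx.incl V)).obj W ≤ ⊤) χ
    obtain ⟨φ, hφ⟩ := exists_sig h (B := F) (F.obj.map (homOfLE (le_imU_top (V := V))).op s) (by
      have hle : W ≤ imU V ((Opens.map (CohCx.incl V)).obj W) :=
        (le_inf le_rfl h).trans (imU_map V W).ge
      refine Eq.trans ?_ ((congrArg (F.obj.map (homOfLE hle).op) (sig_res _ χ)).trans (map_zero _))
      exact map_map_eq F _ _ _ _ s)
    refine ⟨φ, sig_injective (le_top : (Opens.map (CohCx.incl V)).obj W ≤ ⊤) _ ?_⟩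
    rw [sig_pairRestr_map, hφ]
    refine (Functor.map_comp_apply F.obj _ _ s).symm.trans ?_
    exact (ConcreteCategory.congr_hom ((congrArg F.obj.map (Subsingleton.elim _ (𝟙 _))).trans
      (F.obj.map_id _)) s)

theorem extTransfer_pair_bijective (F : CohTop.Ab X) (i : ℕ) :
    Function.Bijective (SiteCoh.extTransfer (CohTop.restrFunctor V) (pairRestr h) F i) :=
  SiteCoh.extTransfer_bijective (CohTop.restrFunctor V) (pairRestr h) (bijective_pairRestr h)
    (fun J _ n => by
      have := injective_restr V J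
      exact Ext.subsingleton_of_injective _ _ n) i F

/-- Excision to an open subspace. -/
theorem exists_restrEquiv (i : ℕ) :
    ∃ e : ∀ F : CohTop.Ab X,
        Hz h F i ≃+ Hz (le_top : (Opens.map (CohCx.incl V)).obj W ≤ ⊤) (CohTop.restr F V) i,
      ∀ (F G : CohTop.Ab X) (φ : F ⟶ G) (x : Hz h F i),
        e G (x.comp (Ext.mk₀ φ) (add_zero i)) =
          (e F x).comp (Ext.mk₀ ((CohTop.restrFunctor V).map φ)) (add_zero i) :=
  ⟨fun F => AddEquiv.ofBijective _ (extTransfer_pair_bijective h F i),
    fun _ _ φ x => SiteCoh.extTransfer_naturality _ _ x φ⟩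

end Restrict

section FullyFaithful

variable {Z : TopCat.{u}} {i : Z ⟶ X} (hi : Topology.IsInducing i)

/-- The preimage of a morphism between direct images along an inducing map. -/
noncomputable def pushPreimage {F G : CohTop.Ab Z}
    (φ : (CohTop.push i).obj F ⟶ (CohTop.push i).obj G) : F ⟶ G :=
  ⟨{ app := fun U => F.1.map (eqToHom (hi.map_functorObj U.unop)).op ≫
        φ.1.app (op (hi.functorObj U.unop)) ≫ G.1.map (eqToHom (hi.map_functorObj U.unop).symm).op
     naturality := fun U U' k => by
      have h : F.1.map ((Opens.map i).map (hi.functor.map k.unop)).op ≫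
          φ.1.app (op (hi.functorObj U'.unop)) = φ.1.app (op (hi.functorObj U.unop)) ≫
            G.1.map ((Opens.map i).map (hi.functor.map k.unop)).op :=
        φ.1.naturality (hi.functor.map k.unop).op
      have e₁ : F.1.map k ≫ F.1.map (eqToHom (hi.map_functorObj U'.unop)).op =
          F.1.map (eqToHom (hi.map_functorObj U.unop)).op ≫
            F.1.map ((Opens.map i).map (hi.functor.map k.unop)).op :=
        (F.1.map_comp _ _).symm.trans ((congrArg F.1.map (Subsingleton.elim _ _)).trans
          (F.1.map_comp _ _))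
      have e₂ : G.1.map ((Opens.map i).map (hi.functor.map k.unop)).op ≫
            G.1.map (eqToHom (hi.map_functorObj U'.unop).symm).op =
          G.1.map (eqToHom (hi.map_functorObj U.unop).symm).op ≫ G.1.map k :=
        (G.1.map_comp _ _).symm.trans ((congrArg G.1.map (Subsingleton.elim _ _)).trans
          (G.1.map_comp _ _))
      exact (reassoc_of% e₁) _ |>.trans <| (congrArg (_ ≫ ·) ((reassoc_of% h) _)).trans <|
        (congrArg (fun q => _ ≫ _ ≫ q) e₂).trans rfl }⟩

/-- Direct image along an inducing map is fully faithful. -/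
noncomputable def pushFullyFaithful : (CohTop.push i).FullyFaithful where
  preimage := pushPreimage hi
  map_preimage {F G} φ := by
    refine ObjectProperty.hom_ext _ (NatTrans.ext (funext fun V => ?_))
    obtain ⟨V⟩ := V
    have hV : hi.functorObj ((Opens.map i).obj V) ≥ V := hi.le_functorObj_iff.2 le_rfl
    have h : F.1.map ((Opens.map i).map (homOfLE hV)).op ≫ φ.1.app (op V) =
        φ.1.app (op (hi.functorObj ((Opens.map i).obj V))) ≫
          G.1.map ((Opens.map i).map (homOfLE hV)).op :=
      φ.1.naturality (homOfLE hV).op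
    change F.1.map (eqToHom (hi.map_functorObj _)).op ≫ _ ≫
      G.1.map (eqToHom (hi.map_functorObj _).symm).op = φ.1.app (op V)
    refine (congrArg (F.1.map _ ≫ ·)
      ((congrArg (φ.1.app (op (hi.functorObj ((Opens.map i).obj V))) ≫ G.1.map ·)
        (Subsingleton.elim _ ((Opens.map i).map (homOfLE hV)).op)).trans h.symm)).trans ?_
    exact (Category.assoc _ _ _).symm.trans ((congrArg (· ≫ _) ((F.1.map_comp _ _).symm.trans
      ((congrArg F.1.map (Subsingleton.elim _ (𝟙 _))).trans (F.1.map_id _)))).trans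
        (Category.id_comp _))
  preimage_map {F G} ψ := by
    refine ObjectProperty.hom_ext _ (NatTrans.ext (funext fun U => ?_))
    obtain ⟨U⟩ := U
    change F.1.map (eqToHom (hi.map_functorObj _)).op ≫
      ψ.1.app (op ((Opens.map i).obj (hi.functorObj U))) ≫
        G.1.map (eqToHom (hi.map_functorObj _).symm).op = ψ.1.app (op U)
    rw [← ψ.1.naturality, ← Functor.map_comp_assoc, ← op_comp, eqToHom_trans, eqToHom_refl,
      op_id, F.1.map_id]
    exact Category.id_comp _

end FullyFaithful

section Closed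

variable (U : Opens X)

/-- A sheaf all of whose sections die on `U`. -/
def VanishesOn (Y : CohTop.Ab X) : Prop :=
  ∀ (V : Opens X) (s : Y.obj.obj (op V)), Y.obj.map (homOfLE (inf_le_left : V ⊓ U ≤ V)).op s = 0

lemma vanishesOn_sectSupp (F : CohTop.Ab X) : VanishesOn U (CohCx.sectSupp U F) := fun V s => by
  apply suppι_injective U F (V ⊓ U)
  refine ((kernel.ι (unitU U F)).hom.naturality_apply _ s).trans ?_
  exact (suppι_res U F V s).trans (map_zero (suppι U F (V ⊓ U)).hom).symm

lemma vanishesOn_push (G : CohTop.Ab (TopCat.of ((U : Set X)ᶜ : Set X))) :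
    VanishesOn U ((CohTop.push (CohCx.inclCompl U)).obj G) := fun V s => by
  have e : (Opens.map (CohCx.inclCompl U)).obj (V ⊓ U) = ⊥ :=
    eq_bot_iff.2 fun z hz => (z.2 hz.2).elim
  have : Subsingleton (G.obj.obj (op ((Opens.map (CohCx.inclCompl U)).obj (V ⊓ U)))) := by
    rw [e]
    exact subsingleton_sections_bot G
  exact this.elim _ _

lemma subsingleton_stalk {Y : CohTop.Ab X} (hY : VanishesOn U Y) {x : X} (hx : x ∈ U) :
    Subsingleton (CohTop.stalk Y x) := by
  refine subsingleton_of_forall_eq 0 fun a => ?_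
  obtain ⟨V, hV, s, rfl⟩ := TopCat.Presheaf.exists_germ_eq Y.obj (x := x) a
  refine (TopCat.Presheaf.germ_res_apply Y.obj (homOfLE (inf_le_left : V ⊓ U ≤ V)) x ⟨hV, hx⟩ s).symm.trans ?_
  exact (congrArg (TopCat.Presheaf.germ Y.obj (V ⊓ U) x ⟨hV, hx⟩) (hY V s)).trans (map_zero _)

theorem isIso_unit_app {Y : CohTop.Ab X} (hY : VanishesOn U Y) :
    IsIso ((TopCat.Sheaf.pullbackPushforwardAdjunction AddCommGrpCat.{u} (CohCx.inclCompl U)).unit.app Y) := by
  let i := CohCx.inclCompl U
  let η := (TopCat.Sheaf.pullbackPushforwardAdjunction AddCommGrpCat.{u} i).unit.app Y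
  have : ∀ x : X, IsIso ((TopCat.Presheaf.stalkFunctor AddCommGrpCat.{u} x).map η.hom) := fun x => by
    by_cases hx : x ∈ U
    · rw [ConcreteCategory.isIso_iff_bijective]
      have h₁ := subsingleton_stalk U hY hx
      have h₂ := subsingleton_stalk U (vanishesOn_push U ((CohTop.pull i).obj Y)) hx
      exact ⟨fun a b _ => h₁.elim (α := CohTop.stalk Y x) a b, fun b => ⟨0, h₂.elim _ _⟩⟩
    · obtain ⟨z, rfl⟩ : ∃ z, i z = x := ⟨⟨x, hx⟩, rfl⟩
      have := TopCat.Presheaf.stalkPushforward.stalkPushforward_iso_of_isInducing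
        AddCommGrpCat.{u} (f := i) Topology.IsInducing.subtypeVal ((CohTop.pull i).obj Y).obj z
      have h : IsIso ((TopCat.Presheaf.stalkFunctor AddCommGrpCat.{u} (i z)).map η.hom ≫
          TopCat.Presheaf.stalkPushforward AddCommGrpCat.{u} i ((CohTop.pull i).obj Y).obj z) :=
        isIso_stalkUnit i Y z
      exact @IsIso.of_isIso_comp_right _ _ _ _ _ _
        (TopCat.Presheaf.stalkPushforward AddCommGrpCat.{u} i ((CohTop.pull i).obj Y).obj z) this h
  exact TopCat.Presheaf.isIso_of_stalkFunctor_map_iso η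

/-- Maps into `F` from a sheaf vanishing on `U` are maps into `Γ_Z F`. -/
noncomputable def toSupp {Y : CohTop.Ab X} (hY : VanishesOn U Y) {F : CohTop.Ab X} (φ : Y ⟶ F) :
    Y ⟶ CohCx.sectSupp U F :=
  kernel.lift (unitU U F) φ (by
    ext V s
    refine (unit_app_eq_zero_iff U F V.unop _).2 ?_
    refine (φ.hom.naturality_apply _ s).symm.trans ?_
    exact (congrArg (φ.hom.app _) (hY V.unop s)).trans (map_zero (φ.hom.app _).hom))

lemma toSupp_precomp {Y' Y : CohTop.Ab X} (hY' : VanishesOn U Y') (hY : VanishesOn U Y)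
    {F : CohTop.Ab X} (f : Y' ⟶ Y) (φ : Y ⟶ F) :
    toSupp U hY' (f ≫ φ) = f ≫ toSupp U hY φ :=
  (cancel_mono (kernel.ι (unitU U F))).1
    ((kernel.lift_ι _ _ _).trans
      ((Category.assoc _ _ _).trans (congrArg (f ≫ ·) (kernel.lift_ι _ _ _))).symm)

lemma toSupp_postcomp {Y : CohTop.Ab X} (hY : VanishesOn U Y) {F F' : CohTop.Ab X} (φ : Y ⟶ F)
    (g : F ⟶ F') :
    toSupp U hY (φ ≫ g) = toSupp U hY φ ≫ (LocCohZ.sectSuppF U).map g :=
  (cancel_mono (kernel.ι (unitU U F'))).1
    ((kernel.lift_ι _ _ _).trans (Eq.symm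
      ((Category.assoc _ _ _).trans
        ((congrArg (toSupp U hY φ ≫ ·)
          (show (LocCohZ.sectSuppF U).map g ≫ kernel.ι (unitU U F') = kernel.ι (unitU U F) ≫ g from
            kernel.lift_ι _ _ _)).trans
          ((Category.assoc _ _ _).symm.trans (congrArg (· ≫ g) (kernel.lift_ι _ _ _)))))))

/-- Hom-sets from sheaves vanishing on `U`. -/
noncomputable def suppHomEquiv {Y : CohTop.Ab X} (hY : VanishesOn U Y) (F : CohTop.Ab X) :
    (Y ⟶ F) ≃ (Y ⟶ CohCx.sectSupp U F) where
  toFun φ := toSupp U hY φ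
  invFun ψ := ψ ≫ kernel.ι (unitU U F)
  left_inv _ := kernel.lift_ι _ _ _
  right_inv _ := (cancel_mono (kernel.ι (unitU U F))).1 (kernel.lift_ι _ _ _)

/-- The unit to the direct image from `Z`, for sections with supports in `Z`. -/
noncomputable def suppUnitIso (F : CohTop.Ab X) :
    CohCx.sectSupp U F ≅ (CohTop.push (CohCx.inclCompl U)).obj
      ((LocCohZ.sectSuppF U ⋙ CohTop.pull (CohCx.inclCompl U)).obj F) :=
  @asIso _ _ _ _ _ (isIso_unit_app U (vanishesOn_sectSupp U F))

lemma suppUnitIso_natural {F F' : CohTop.Ab X} (g : F ⟶ F') :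
    (LocCohZ.sectSuppF U).map g ≫ (suppUnitIso U F').hom =
      (suppUnitIso U F).hom ≫ (CohTop.push (CohCx.inclCompl U)).map
        ((LocCohZ.sectSuppF U ⋙ CohTop.pull (CohCx.inclCompl U)).map g) :=
  (TopCat.Sheaf.pullbackPushforwardAdjunction AddCommGrpCat.{u}
    (CohCx.inclCompl U)).unit.naturality ((LocCohZ.sectSuppF U).map g)

/-- Hom-set bijection. -/
noncomputable def closedHomEquiv (G : CohTop.Ab (TopCat.of ((U : Set X)ᶜ : Set X))) (F : CohTop.Ab X) :
    ((CohTop.push (CohCx.inclCompl U)).obj G ⟶ F) ≃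
      (G ⟶ (LocCohZ.sectSuppF U ⋙ CohTop.pull (CohCx.inclCompl U)).obj F) :=
  ((suppHomEquiv U (vanishesOn_push U G) F).trans (suppUnitIso U F).homToEquiv).trans
    (pushFullyFaithful (i := CohCx.inclCompl U) Topology.IsInducing.subtypeVal).homEquiv.symm

lemma map_closedHomEquiv (G : CohTop.Ab (TopCat.of ((U : Set X)ᶜ : Set X))) (F : CohTop.Ab X)
    (φ : (CohTop.push (CohCx.inclCompl U)).obj G ⟶ F) :
    (CohTop.push (CohCx.inclCompl U)).map (closedHomEquiv U G F φ) =
      toSupp U (vanishesOn_push U G) φ ≫ (suppUnitIso U F).hom :=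
  (pushFullyFaithful (i := CohCx.inclCompl U) Topology.IsInducing.subtypeVal).homEquiv.apply_symm_apply _

/-- Direct image from a closed subset is left adjoint to restricted sections with supports. -/
noncomputable def pushSuppAdjunction :
    CohTop.push (CohCx.inclCompl U) ⊣ LocCohZ.sectSuppF U ⋙ CohTop.pull (CohCx.inclCompl U) :=
  Adjunction.mkOfHomEquiv
    { homEquiv := closedHomEquiv U
      homEquiv_naturality_left_symm := fun {G' G F} f g => by
        obtain ⟨ψ, rfl⟩ := (closedHomEquiv U G F).surjective g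
        apply (closedHomEquiv U G' F).injective
        rw [Equiv.apply_symm_apply, Equiv.symm_apply_apply]
        apply (pushFullyFaithful (i := CohCx.inclCompl U) Topology.IsInducing.subtypeVal).map_injective
        rw [Functor.map_comp, map_closedHomEquiv, map_closedHomEquiv,
          toSupp_precomp U (vanishesOn_push U G') (vanishesOn_push U G)]
        exact (Category.assoc _ _ _).symm
      homEquiv_naturality_right := fun {G F F'} φ g => by
        apply (pushFullyFaithful (i := CohCx.inclCompl U) Topology.IsInducing.subtypeVal).map_injective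
        rw [Functor.map_comp, map_closedHomEquiv, map_closedHomEquiv, toSupp_postcomp]
        exact (Category.assoc _ _ _).trans ((congrArg (toSupp U (vanishesOn_push U G) φ ≫ ·)
          (suppUnitIso_natural U g)).trans (Category.assoc _ _ _).symm) }

end Closed

end Groth.Agent.LocCohZ46
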