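import Groth.Agent.LocCohZ46.Sheaf
import Groth.Agent.TopCoh49.MV
import Groth.Agent.TopCoh49.Rpush

/-!
Elementary consequences: flasque sheaves, Mayer-Vietoris, global sections with supports.
-/

universe u

open CategoryTheory CategoryTheory.Limits TopologicalSpace Opposite CategoryTheory.Abelian
open Groth.Agent.TopCoh49

namespace Groth.Agent.LocCohZ46

variable {X : TopCat.{u}}

lemma isZero_HZsh_of_locally_zero (U : Opens X) (F : CohTop.Ab X) (q : ℕ)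
    (hloc : ∀ (V : Opens X) (x : Hz (inf_le_left : V ⊓ U ≤ V) F q) (p : X), p ∈ V →
      ∃ (V' : Opens X) (hV : V' ≤ V), p ∈ V' ∧
        (Ext.mk₀ ((zqFun U).map (homOfLE hV))).comp x (zero_add q) = 0) :
    IsZero ((LocCohZ.HZsh U q).obj F) :=
  IsZero.of_iso (isZero_sheafify_of_locally_zero ((SiteCoh.extPre (zqFun U) q).obj F) hloc)
    ((HZshIso U q).app F)

theorem isZero_HZsh_of_isFlasque (U : Opens X) (F : CohTop.Ab X) [TopCat.Sheaf.IsFlasque F]
    (i : ℕ) : IsZero ((LocCohZ.HZsh U (i + 1)).obj F) :=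
  isZero_HZsh_of_locally_zero U F (i + 1) fun V x p hp =>
    ⟨V, le_rfl, hp, by
      obtain rfl : x = 0 := (subsingleton_HZ_of_isFlasque (inf_le_left : V ⊓ U ≤ V) F i).elim _ _
      exact Ext.comp_zero _ _ _ _ _⟩

theorem isFlasque_of_subsingleton_HZ (F : CohTop.Ab X)
    (h : ∀ U : Opens X, Subsingleton (Hz (le_top : U ≤ ⊤) F 1)) : TopCat.Sheaf.IsFlasque F where
  epi {U V} i := by
    rw [AddCommGrpCat.epi_iff_surjective]
    intro s
    obtain ⟨V⟩ := V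
    obtain ⟨U⟩ := U
    obtain ⟨y, hy⟩ := exact_HW (le_top : V ≤ ⊤) F ((E₀ F V).symm s) ((h V).elim _ _)
    refine ⟨F.obj.map (homOfLE (le_top : U ≤ ⊤)).op (E₀ F ⊤ y), ?_⟩
    have e := congrArg (E₀ F V) hy
    rw [E₀_eres, AddEquiv.apply_symm_apply] at e
    refine Eq.trans ?_ e
    refine (Functor.map_comp_apply F.obj _ _ _).symm.trans ?_
    rfl

theorem isFlasque_sectSupp (A : CohTop.Ab X) [hA : TopCat.Sheaf.IsFlasque A] (U : Opens X) :
    TopCat.Sheaf.IsFlasque (CohCx.sectSupp U A) where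
  epi {V W} i := by
    rw [AddCommGrpCat.epi_iff_surjective]
    intro s
    obtain ⟨W⟩ := W
    obtain ⟨V⟩ := V
    have hWV : W ≤ V := leOfHom i.unop
    obtain ⟨c, hc₁, hc₂⟩ := exists_glue₂ A (U := W) (V := V ⊓ U) (suppι U A W s) 0 (by
      refine Eq.trans ?_ (map_zero (A.obj.map _).hom).symm
      have hle : W ⊓ (V ⊓ U) ≤ W ⊓ U := inf_le_inf_left W inf_le_right
      refine (rs_rs A.obj (inf_le_left : W ⊓ U ≤ W) hle _).symm.trans ?_
      exact (congrArg (rs A.obj hle) (suppι_res U A W s)).trans (map_zero (A.obj.map _).hom))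
    obtain ⟨t, ht⟩ := (AddCommGrpCat.epi_iff_surjective _).1
      (hA.epi (homOfLE (sup_le hWV inf_le_left : W ⊔ (V ⊓ U) ≤ V)).op) c
    obtain ⟨z, hz⟩ := exists_suppι U A V t
      ((rs_rs A.obj (sup_le hWV inf_le_left) le_sup_right t).symm.trans
        ((congrArg (rs A.obj le_sup_right) ht).trans hc₂))
    refine ⟨z, suppι_injective U A W ?_⟩
    refine ((kernel.ι (unitU U A)).hom.naturality_apply i z).trans ?_
    refine (congrArg (A.obj.map i) hz).trans ?_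
    exact ((rs_rs A.obj (sup_le hWV inf_le_left) le_sup_left t).symm.trans
      ((congrArg (rs A.obj le_sup_left) ht).trans hc₁))

section MayerVietoris

universe w v' u'

variable {A : Type u'} [Category.{v'} A] [Abelian A] [HasExt.{w} A] {Z₁ Y Y' Z₃ : A}
  {a : Z₁ ⟶ Y} {b : Z₁ ⟶ Y'} {c : Y ⟶ Z₃} {d : Y' ⟶ Z₃}

lemma biprodLift_comp (F : A) {i : ℕ} (x : Ext.{w} (Y ⊞ Y') F i) :
    (Ext.mk₀ (biprod.lift a b)).comp x (zero_add i) =
      (Ext.mk₀ a).comp ((Ext.mk₀ biprod.inl).comp x (zero_add i)) (zero_add i) +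
      (Ext.mk₀ b).comp ((Ext.mk₀ biprod.inr).comp x (zero_add i)) (zero_add i) := by
  rw [biprod.lift_eq, Ext.mk₀_add, Ext.add_comp, Ext.mk₀_comp_mk₀_assoc, Ext.mk₀_comp_mk₀_assoc]

/-- The long exact sequence of a short exact sequence with a biproduct in the middle. -/
theorem mv_exact {w : biprod.lift a (-b) ≫ biprod.desc c d = 0}
    (hS : (ShortComplex.mk _ _ w).ShortExact) (F : A) :
    Function.Injective (fun x : Ext.{w} Z₃ F 0 => ((Ext.mk₀ c).precomp F (zero_add 0) x,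
        (Ext.mk₀ d).precomp F (zero_add 0) x)) ∧
    ∀ i : ℕ,
      (∀ y : Ext.{w} Y F i × Ext.{w} Y' F i,
        (Ext.mk₀ a).precomp F (zero_add i) y.1 - (Ext.mk₀ b).precomp F (zero_add i) y.2 = 0 ↔
          ∃ x : Ext.{w} Z₃ F i, (Ext.mk₀ c).precomp F (zero_add i) x = y.1 ∧
            (Ext.mk₀ d).precomp F (zero_add i) x = y.2) ∧
      (∀ z : Ext.{w} Z₁ F i, hS.extClass.precomp F (add_comm 1 i) z = 0 ↔
        ∃ y : Ext.{w} Y F i × Ext.{w} Y' F i,
          (Ext.mk₀ a).precomp F (zero_add i) y.1 - (Ext.mk₀ b).precomp F (zero_add i) y.2 = z) ∧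
      (∀ x : Ext.{w} Z₃ F (i + 1), ((Ext.mk₀ c).precomp F (zero_add (i + 1)) x = 0 ∧
          (Ext.mk₀ d).precomp F (zero_add (i + 1)) x = 0) ↔
        ∃ z : Ext.{w} Z₁ F i, hS.extClass.precomp F (add_comm 1 i) z = x) := by
  have hf : ∀ {i : ℕ} (x : Ext.{w} (Y ⊞ Y') F i),
      (Ext.mk₀ (biprod.lift a (-b))).comp x (zero_add i) =
      (Ext.mk₀ a).comp ((Ext.mk₀ biprod.inl).comp x (zero_add i)) (zero_add i) -
      (Ext.mk₀ b).comp ((Ext.mk₀ biprod.inr).comp x (zero_add i)) (zero_add i) := fun {i} x => by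
    rw [biprodLift_comp, Ext.mk₀_neg, Ext.neg_comp, sub_eq_add_neg]
  have hl : ∀ {i : ℕ} (x : Ext.{w} Z₃ F i),
      (Ext.mk₀ biprod.inl).comp ((Ext.mk₀ (biprod.desc c d)).comp x (zero_add i)) (zero_add i) =
        (Ext.mk₀ c).precomp F (zero_add i) x := fun {i} x => by
    rw [Ext.mk₀_comp_mk₀_assoc, biprod.inl_desc]; rfl
  have hr : ∀ {i : ℕ} (x : Ext.{w} Z₃ F i),
      (Ext.mk₀ biprod.inr).comp ((Ext.mk₀ (biprod.desc c d)).comp x (zero_add i)) (zero_add i) =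
        (Ext.mk₀ d).precomp F (zero_add i) x := fun {i} x => by
    rw [Ext.mk₀_comp_mk₀_assoc, biprod.inr_desc]; rfl
  have hext : ∀ {i : ℕ} (x x' : Ext.{w} (Y ⊞ Y') F i),
      (Ext.mk₀ biprod.inl).comp x (zero_add i) = (Ext.mk₀ biprod.inl).comp x' (zero_add i) →
      (Ext.mk₀ biprod.inr).comp x (zero_add i) = (Ext.mk₀ biprod.inr).comp x' (zero_add i) →
      x = x' := fun {i} x x' e e' => by
    have key : ∀ z : Ext.{w} (Y ⊞ Y') F i, z =
        (Ext.mk₀ biprod.fst).comp ((Ext.mk₀ biprod.inl).comp z (zero_add i)) (zero_add i) +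
        (Ext.mk₀ biprod.snd).comp ((Ext.mk₀ biprod.inr).comp z (zero_add i)) (zero_add i) := fun z => by
      rw [Ext.mk₀_comp_mk₀_assoc, Ext.mk₀_comp_mk₀_assoc, ← Ext.add_comp, ← Ext.mk₀_add,
        biprod.total, Ext.mk₀_id_comp]
    rw [key x, key x', e, e']
  have hmk : ∀ {i : ℕ} (y : Ext.{w} Y F i) (y' : Ext.{w} Y' F i), ∃ x : Ext.{w} (Y ⊞ Y') F i,
      (Ext.mk₀ biprod.inl).comp x (zero_add i) = y ∧
      (Ext.mk₀ biprod.inr).comp x (zero_add i) = y' := fun {i} y y' =>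
    ⟨(Ext.mk₀ biprod.fst).comp y (zero_add i) + (Ext.mk₀ biprod.snd).comp y' (zero_add i), by
      constructor <;>
        simp only [Ext.comp_add, Ext.mk₀_comp_mk₀_assoc, biprod.inl_fst, biprod.inr_snd,
          biprod.inl_snd, biprod.inr_fst, Ext.mk₀_zero, Ext.zero_comp, Ext.mk₀_id_comp, add_zero,
          zero_add]⟩
  refine ⟨fun x x' e => ?_, fun i => ⟨fun y => ?_, fun z => ?_, fun x => ?_⟩⟩
  · simp only [Prod.mk.injEq] at e
    rw [← hl, ← hl, ← hr, ← hr] at e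
    have := hS.epi_g
    exact mk₀_precomp_injective F (biprod.desc c d) (zero_add 0) (hext _ _ e.1 e.2)
  · constructor
    · intro hy
      obtain ⟨y₂, e₁, e₂⟩ := hmk y.1 y.2
      obtain ⟨x, hx⟩ := Ext.contravariant_sequence_exact₂ hS F y₂ (by
        refine (hf y₂).trans ?_
        rw [e₁, e₂]
        exact hy)
      dsimp only at hx
      exact ⟨x, by rw [← hl, hx, e₁], by rw [← hr, hx, e₂]⟩
    · rintro ⟨x, e₁, e₂⟩
      rw [← e₁, ← e₂, ← hl, ← hr]
      refine (hf _).symm.trans ?_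
      rw [Ext.mk₀_comp_mk₀_assoc, w, Ext.mk₀_zero, Ext.zero_comp]
  · constructor
    · intro hz
      obtain ⟨y, hy⟩ := Ext.contravariant_sequence_exact₁ hS F z (add_comm 1 i) hz
      exact ⟨⟨_, _⟩, (hf y).symm.trans hy⟩
    · rintro ⟨y, rfl⟩
      obtain ⟨y₂, e₁, e₂⟩ := hmk y.1 y.2
      rw [← e₁, ← e₂]
      refine (congrArg (hS.extClass.precomp F (add_comm 1 i)) (hf y₂).symm).trans ?_
      exact extClass_precomp_mk₀_f hS F (zero_add i) (add_comm 1 i) y₂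
  · constructor
    · rintro ⟨e₁, e₂⟩
      refine Ext.contravariant_sequence_exact₃ hS F x (hext _ 0 ?_ ?_) (add_comm 1 i)
      · rw [hl, e₁, Ext.comp_zero]
      · rw [hr, e₂, Ext.comp_zero]
    · rintro ⟨z, rfl⟩
      have h0 := mk₀_g_precomp_extClass hS F (zero_add (i + 1)) (add_comm 1 i) z
      rw [← hl, ← hr]
      exact ⟨(congrArg (fun t => (Ext.mk₀ biprod.inl).comp t (zero_add (i + 1))) h0).trans
          (Ext.comp_zero _ _ _ _ _),
        (congrArg (fun t => (Ext.mk₀ biprod.inr).comp t (zero_add (i + 1))) h0).trans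
          (Ext.comp_zero _ _ _ _ _)⟩

end MayerVietoris

section Global

/-- The pair `⊤ ⊓ U ≤ ⊤` gives the same sheaf as `U ≤ ⊤`. -/
noncomputable def zqTopIso (U : Opens X) :
    (zqFun U).obj ⊤ ≅ LocCohZ.zq (le_top : U ≤ ⊤) where
  hom := LocCohZ.zqMap (le_top : U ≤ ⊤) (inf_le_left : ⊤ ⊓ U ≤ ⊤) inf_le_right le_rfl
  inv := LocCohZ.zqMap (inf_le_left : ⊤ ⊓ U ≤ ⊤) (le_top : U ≤ ⊤) (le_inf le_top le_rfl) le_rfl
  hom_inv_id := (zqMap_comp _ _ _ _ _ _ _).trans (zqMap_self _ _ _)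
  inv_hom_id := (zqMap_comp _ _ _ _ _ _ _).trans (zqMap_self _ _ _)

theorem nonempty_RHZ_iso (U : Opens X) (q : ℕ) :
    Nonempty (LocCohZ.RHZ U q ≅ ToposFin.HZFunctor (LocCohZ.openSh U) q) := by
  let ev := (evaluation (Opens X)ᵒᵖ AddCommGrpCat.{u}).obj (op ⊤)
  let e : LocCohZ.gammaZF U ≅ SiteCoh.homPre (zqFun U) ⋙ ev :=
    (Functor.associator _ _ _).symm ≪≫ Functor.isoWhiskerRight (suppPreIso U).symm ev
  refine ⟨rightDerivedIso e q ≪≫ SiteCoh.rightDerivedCompExactIso _ ev q ≪≫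
    Functor.isoWhiskerRight (SiteCoh.rightDerivedHomPreIso (zqFun U) q) ev ≪≫
    (Abelian.extFunctor.{u} q).mapIso (zqTopIso U ≪≫ LocCohZ.zqIsoQuotZ U).symm.op⟩

end Global

end Groth.Agent.LocCohZ46
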