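import Groth.Agent.TopCoh49.Coh
import Groth.Prelude.Def_LocCohZ
import Mathlib.CategoryTheory.Limits.Shapes.BinaryBiproducts

/-!
The sheaves attached to pairs of opens, sections with supports, and the elementary exact sequences
of cohomology with supports.
-/

universe u

open CategoryTheory CategoryTheory.Limits TopologicalSpace Opposite CategoryTheory.Abelian
open Groth.Agent.TopCoh49

namespace Groth.Agent.LocCohZ46

variable {X : TopCat.{u}} {W V : Opens X} (h : W ≤ V)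

/-- The projection `ℤ_V ⟶ ℤ_V/ℤ_W`. -/
noncomputable abbrev zqπ : freeU V ⟶ LocCohZ.zq h :=
  cokernel.π (CohCx.freeSheafMap (Opens.grothendieckTopology X) (homOfLE h))

/-- The section attached to a map out of `ℤ_V/ℤ_W`. -/
noncomputable def sig {B : CohTop.Ab X} (φ : LocCohZ.zq h ⟶ B) : B.obj.obj (op V) :=
  freeHomEquiv V B (zqπ h ≫ φ)

lemma sig_injective (B : CohTop.Ab X) : Function.Injective (sig h (B := B)) := fun φ ψ e =>
  (cancel_epi (zqπ h)).1 ((freeHomEquiv V B).injective e)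

lemma sig_add {B : CohTop.Ab X} (φ ψ : LocCohZ.zq h ⟶ B) : sig h (φ + ψ) = sig h φ + sig h ψ := by
  rw [sig, Preadditive.comp_add]
  exact freeHomEquiv_add V _ _

lemma sig_zero {B : CohTop.Ab X} : sig h (0 : LocCohZ.zq h ⟶ B) = 0 := by
  have := sig_add h (0 : LocCohZ.zq h ⟶ B) 0
  rw [add_zero] at this
  exact left_eq_add.1 this

lemma sig_comp {B B' : CohTop.Ab X} (φ : LocCohZ.zq h ⟶ B) (g : B ⟶ B') :
    sig h (φ ≫ g) = g.hom.app (op V) (sig h φ) := by
  rw [sig, sig, ← Category.assoc, freeHomEquiv_comp]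

lemma sig_res {B : CohTop.Ab X} (φ : LocCohZ.zq h ⟶ B) :
    B.obj.map (homOfLE h).op (sig h φ) = 0 := by
  have e : (freeFun X).map (homOfLE h) ≫ zqπ h ≫ φ = 0 :=
    (Category.assoc _ _ _).symm.trans ((congrArg (· ≫ φ) (cokernel.condition _)).trans zero_comp)
  rw [sig, ← freeHomEquiv_precomp, e]
  exact map_zero (freeHomAddEquiv W B)

lemma exists_sig {B : CohTop.Ab X} (s : B.obj.obj (op V)) (hs : B.obj.map (homOfLE h).op s = 0) :
    ∃ φ : LocCohZ.zq h ⟶ B, sig h φ = s := by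
  refine ⟨cokernel.desc _ ((freeHomEquiv V B).symm s) ?_, ?_⟩
  · apply (freeHomEquiv W B).injective
    refine (freeHomEquiv_precomp (homOfLE h) ((freeHomEquiv V B).symm s)).trans ?_
    rw [Equiv.apply_symm_apply, hs]
    exact (map_zero (freeHomAddEquiv W B)).symm
  · rw [sig]
    exact (congrArg (freeHomEquiv V B) (cokernel.π_desc _ _ _)).trans
      ((freeHomEquiv V B).apply_symm_apply s)

lemma zqπ_zqMap {W' V' : Opens X} (h' : W' ≤ V') (hW : W' ≤ W) (hV : V' ≤ V) :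
    zqπ h' ≫ LocCohZ.zqMap h h' hW hV = (freeFun X).map (homOfLE hV) ≫ zqπ h :=
  cokernel.π_desc _ _ _

lemma sig_zqMap {W' V' : Opens X} (h' : W' ≤ V') (hW : W' ≤ W) (hV : V' ≤ V) {B : CohTop.Ab X}
    (φ : LocCohZ.zq h ⟶ B) :
    sig h' (LocCohZ.zqMap h h' hW hV ≫ φ) = B.obj.map (homOfLE hV).op (sig h φ) := by
  rw [sig, sig, ← freeHomEquiv_precomp, ← Category.assoc, zqπ_zqMap, Category.assoc]

lemma zqMap_self (hW : W ≤ W) (hV : V ≤ V) : LocCohZ.zqMap h h hW hV = 𝟙 _ := by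
  apply sig_injective h
  rw [← Category.comp_id (LocCohZ.zqMap h h hW hV), sig_zqMap]
  simp

lemma zqMap_comp {W' V' W'' V'' : Opens X} (h' : W' ≤ V') (h'' : W'' ≤ V'') (hW : W' ≤ W)
    (hV : V' ≤ V) (hW' : W'' ≤ W') (hV' : V'' ≤ V') :
    LocCohZ.zqMap h' h'' hW' hV' ≫ LocCohZ.zqMap h h' hW hV =
      LocCohZ.zqMap h h'' (hW'.trans hW) (hV'.trans hV) := by
  apply sig_injective h''
  rw [sig_zqMap, ← Category.comp_id (LocCohZ.zqMap h h' hW hV), sig_zqMap,
    ← Category.comp_id (LocCohZ.zqMap h h'' _ _), sig_zqMap, ← Functor.map_comp_apply]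
  rfl

section General

universe w v' u'

variable {A : Type u'} [Category.{v'} A] [Abelian A] [HasExt.{w} A] {S : ShortComplex A}
  (hS : S.ShortExact) (F : A) {i : ℕ}

include hS

lemma precomp_exact₃ (h₁ : 0 + (i + 1) = i + 1) (h₂ : 1 + i = i + 1) (x : Ext.{w} S.X₃ F (i + 1))
    (hx : (Ext.mk₀ S.g).precomp F h₁ x = 0) : ∃ w, hS.extClass.precomp F h₂ w = x :=
  Ext.contravariant_sequence_exact₃ hS F x hx h₂

lemma precomp_exact₂ (h₁ : 0 + i = i) (y : Ext.{w} S.X₂ F i)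
    (hy : (Ext.mk₀ S.f).precomp F h₁ y = 0) : ∃ x, (Ext.mk₀ S.g).precomp F h₁ x = y :=
  Ext.contravariant_sequence_exact₂ hS F y hy

lemma precomp_exact₁ (h₁ : 0 + i = i) (h₂ : 1 + i = i + 1) (w : Ext.{w} S.X₁ F i)
    (hw : hS.extClass.precomp F h₂ w = 0) : ∃ y, (Ext.mk₀ S.f).precomp F h₁ y = w :=
  Ext.contravariant_sequence_exact₁ hS F w h₂ hw

lemma extClass_precomp_mk₀_f (h₁ : 0 + i = i) (h₂ : 1 + i = i + 1) (y : Ext.{w} S.X₂ F i) :
    hS.extClass.precomp F h₂ ((Ext.mk₀ S.f).precomp F h₁ y) = 0 := by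
  change hS.extClass.comp ((Ext.mk₀ S.f).comp y h₁) h₂ = 0
  rw [← Ext.comp_assoc_of_second_deg_zero, hS.extClass_comp, Ext.zero_comp]

lemma mk₀_g_precomp_extClass (h₁ : 0 + (i + 1) = i + 1) (h₂ : 1 + i = i + 1)
    (w : Ext.{w} S.X₁ F i) :
    (Ext.mk₀ S.g).precomp F h₁ (hS.extClass.precomp F h₂ w) = 0 := by
  change (Ext.mk₀ S.g).comp (hS.extClass.comp w h₂) h₁ = 0
  rw [← Ext.comp_assoc (Ext.mk₀ S.g) hS.extClass w (zero_add 1) h₂ (by omega), hS.comp_extClass,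
    Ext.zero_comp]

omit hS in
lemma mk₀_f_precomp_mk₀_g (h₁ : 0 + i = i) (x : Ext.{w} S.X₃ F i) :
    (Ext.mk₀ S.f).precomp F h₁ ((Ext.mk₀ S.g).precomp F h₁ x) = 0 := by
  change (Ext.mk₀ S.f).comp ((Ext.mk₀ S.g).comp x h₁) h₁ = 0
  rw [Ext.mk₀_comp_mk₀_assoc, S.zero, Ext.mk₀_zero, Ext.zero_comp]

omit hS in
lemma mk₀_precomp_injective {B C : A} (g : B ⟶ C) [Epi g] (h₁ : 0 + 0 = 0) :
    Function.Injective ((Ext.mk₀ g).precomp F h₁) := by
  intro x y e
  obtain ⟨φ, rfl⟩ := (Ext.mk₀_bijective _ _).2 x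
  obtain ⟨ψ, rfl⟩ := (Ext.mk₀_bijective _ _).2 y
  have e' : (Ext.mk₀ g).comp (Ext.mk₀ φ) h₁ = (Ext.mk₀ g).comp (Ext.mk₀ ψ) h₁ := e
  rw [Ext.mk₀_comp_mk₀, Ext.mk₀_comp_mk₀] at e'
  exact congrArg Ext.mk₀ ((cancel_epi g).1 ((Ext.mk₀_bijective _ _).1 e'))

end General

/-- The short complex of a pair of opens, written with `freeFun`. -/
noncomputable def pairSeq : ShortComplex (CohTop.Ab X) :=
  ShortComplex.mk (X₁ := freeU W) (X₂ := freeU V) (X₃ := LocCohZ.zq h)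
    ((freeFun X).map (homOfLE h)) (zqπ h) (cokernel.condition _)

lemma pairSeq_shortExact : (pairSeq h).ShortExact := LocCohZ.zqSeq_shortExact h

/-- Cohomology with supports, as a plain Ext group with the cached instances. -/
noncomputable abbrev Hz (F : CohTop.Ab X) (i : ℕ) : Type u := Ext.{u} (LocCohZ.zq h) F i

section Sequence

variable (F : CohTop.Ab X)

/-- Forgetting supports. -/
noncomputable abbrev toE (i : ℕ) : Hz h F i →+ E F i V :=
  (Ext.mk₀ (zqπ h)).precomp F (zero_add i)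

/-- The class of the extension attached to a pair of opens. -/
noncomputable def pairClass : Ext.{u} (LocCohZ.zq h) (freeU W) 1 :=
  (pairSeq_shortExact h).extClass

/-- The connecting map. -/
noncomputable abbrev dl (i : ℕ) : E F i W →+ Hz h F (i + 1) :=
  (pairClass h).precomp F (add_comm 1 i)

lemma toE_injective_zero : Function.Injective (toE h F 0) :=
  mk₀_precomp_injective F (zqπ h) (zero_add 0)

lemma exact_HZ {i : ℕ} (x : Hz h F (i + 1)) (hx : toE h F (i + 1) x = 0) :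
    ∃ w : E F i W, dl h F i w = x :=
  precomp_exact₃ (pairSeq_shortExact h) F _ _ x hx

lemma exact_HV {i : ℕ} (y : E F i V) (hy : eres F i h y = 0) :
    ∃ x : Hz h F i, toE h F i x = y :=
  precomp_exact₂ (pairSeq_shortExact h) F _ y hy

lemma exact_HW {i : ℕ} (w : E F i W) (hw : dl h F i w = 0) : ∃ y : E F i V, eres F i h y = w :=
  precomp_exact₁ (pairSeq_shortExact h) F _ _ w hw

lemma dl_eres {i : ℕ} (y : E F i V) : dl h F i (eres F i h y) = 0 :=
  extClass_precomp_mk₀_f (pairSeq_shortExact h) F _ _ y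

lemma toE_dl {i : ℕ} (w : E F i W) : toE h F (i + 1) (dl h F i w) = 0 :=
  mk₀_g_precomp_extClass (pairSeq_shortExact h) F _ _ w

lemma eres_toE {i : ℕ} (x : Hz h F i) : eres F i h (toE h F i x) = 0 :=
  mk₀_f_precomp_mk₀_g (S := pairSeq h) F _ x

theorem subsingleton_HZ_of_isFlasque [hF : TopCat.Sheaf.IsFlasque F] (i : ℕ) :
    Subsingleton (Hz h F (i + 1)) := by
  refine subsingleton_of_forall_eq 0 fun x => ?_
  obtain ⟨w, rfl⟩ := exact_HZ h F x ((subsingleton_E_of_isFlasque i F V).elim _ _)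
  cases i with
  | zero =>
    obtain ⟨t, ht⟩ := (AddCommGrpCat.epi_iff_surjective _).1 (hF.epi (homOfLE h).op) (E₀ F W w)
    have : eres F 0 h ((E₀ F V).symm t) = w := by
      apply (E₀ F W).injective
      rw [E₀_eres, AddEquiv.apply_symm_apply, ht]
    rw [← this, dl_eres]
  | succ i =>
    obtain rfl : w = 0 := (subsingleton_E_of_isFlasque i F W).elim _ _
    exact map_zero (dl h F (i + 1))

end Sequence

section ShortExact

lemma shortExact_of {S : ShortComplex (CohTop.Ab X)}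
    (hmono : ∀ (I : CohTop.Ab X), Injective I → ∀ φ : S.X₁ ⟶ I, ∃ ψ : S.X₂ ⟶ I, S.f ≫ ψ = φ)
    (hepi : Epi S.g)
    (hdesc : ∀ (B : CohTop.Ab X) (φ : S.X₂ ⟶ B), S.f ≫ φ = 0 → ∃ ψ : S.X₃ ⟶ B, S.g ≫ ψ = φ) :
    S.ShortExact where
  exact := ShortComplex.exact_of_g_is_cokernel _ (CokernelCofork.IsColimit.ofπ' S.g S.zero
    fun {B} φ hφ => ⟨(hdesc B φ hφ).choose, (hdesc B φ hφ).choose_spec⟩)
  mono_f := by
    obtain ⟨ψ, hψ⟩ := hmono _ inferInstance (Injective.ι S.X₁)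
    exact mono_of_mono_fac hψ
  epi_g := hepi

theorem triple_shortExact {W V T : Opens X} (hWV : W ≤ V) (hVT : V ≤ T) :
    ∃ w : LocCohZ.zqMap (hWV.trans hVT) hWV le_rfl hVT ≫
        LocCohZ.zqMap hVT (hWV.trans hVT) hWV le_rfl = 0,
      (ShortComplex.mk _ _ w).ShortExact := by
  have w : LocCohZ.zqMap (hWV.trans hVT) hWV le_rfl hVT ≫
      LocCohZ.zqMap hVT (hWV.trans hVT) hWV le_rfl = 0 := by
    apply sig_injective hWV
    rw [sig_zero, sig_zqMap, ← Category.comp_id (LocCohZ.zqMap hVT (hWV.trans hVT) hWV le_rfl),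
      sig_zqMap, ← Functor.map_comp_apply, ← op_comp, homOfLE_comp]
    exact sig_res hVT _
  refine ⟨w, shortExact_of (fun I hI φ => ?_) ⟨fun a b e => ?_⟩ fun B φ hφ => ?_⟩
  · have hI' := isFlasque_of_injective I
    obtain ⟨t, ht⟩ := (AddCommGrpCat.epi_iff_surjective _).1
      (hI'.epi (homOfLE hVT).op) (sig hWV φ)
    obtain ⟨ψ, hψ⟩ := exists_sig (hWV.trans hVT) t (by
      rw [← homOfLE_comp hWV hVT, op_comp, Functor.map_comp_apply, ht]
      exact sig_res hWV φ)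
    exact ⟨ψ, sig_injective hWV _ (by rw [sig_zqMap, hψ, ht])⟩
  · apply sig_injective hVT
    have e' := congrArg (sig (hWV.trans hVT)) e
    rw [sig_zqMap, sig_zqMap] at e'
    simpa using e'
  · have h0 := congrArg (sig hWV) hφ
    rw [sig_zqMap, sig_zero] at h0
    obtain ⟨ψ, hψ⟩ := exists_sig hVT (sig (hWV.trans hVT) φ) h0
    exact ⟨ψ, sig_injective (hWV.trans hVT) _ (by rw [sig_zqMap, hψ]; simp)⟩

/-- The Mayer-Vietoris sequence of the sheaves attached to two opens. -/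
noncomputable def mvSeq (U U' : Opens X) : ShortComplex (CohTop.Ab X) :=
  ShortComplex.mk
    (biprod.lift (LocCohZ.zqMap (le_top : U ≤ ⊤) (le_top : U ⊓ U' ≤ ⊤) inf_le_left le_rfl)
      (-LocCohZ.zqMap (le_top : U' ≤ ⊤) (le_top : U ⊓ U' ≤ ⊤) inf_le_right le_rfl))
    (biprod.desc (LocCohZ.zqMap (le_top : U ⊔ U' ≤ ⊤) (le_top : U ≤ ⊤) le_sup_left le_rfl)
      (LocCohZ.zqMap (le_top : U ⊔ U' ≤ ⊤) (le_top : U' ≤ ⊤) le_sup_right le_rfl))
    (by rw [biprod.lift_desc, Preadditive.neg_comp, zqMap_comp, zqMap_comp, add_neg_cancel])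

theorem mvSeq_shortExact (U U' : Opens X) : (mvSeq U U').ShortExact := by
  refine shortExact_of (fun I hI φ => ?_) ⟨fun a b e => ?_⟩ fun B φ hφ => ?_
  · have hI' := isFlasque_of_injective I
    let s := sig (le_top : U ⊓ U' ≤ ⊤) φ
    have hs : I.obj.map (homOfLE (inf_le_left.trans (le_top : U ≤ ⊤) : U ⊓ U' ≤ ⊤)).op s = 0 :=
      sig_res _ φ
    let B2 : Fin 2 → Opens X := ![U, U']
    let sf : ∀ k : ULift.{u} (Fin 2), I.obj.obj (op (B2 k.down))
      | ⟨0⟩ => 0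
      | ⟨1⟩ => I.obj.map (homOfLE (le_top : U' ≤ ⊤)).op s
    obtain ⟨c, hc, -⟩ := TopCat.Sheaf.existsUnique_gluing' (X := X) (C := AddCommGrpCat.{u}) I
      (fun k : ULift.{u} (Fin 2) => B2 k.down) (U ⊔ U')
      (fun k => homOfLE (by rcases k with ⟨k⟩; fin_cases k; exacts [le_sup_left, le_sup_right]))
      (fun x (hx : x ∈ (U : Set X) ∪ U') => hx.elim (fun hx => Opens.mem_iSup.2 ⟨⟨0⟩, hx⟩)
        (fun hx => Opens.mem_iSup.2 ⟨⟨1⟩, hx⟩)) sf (by
        rintro ⟨a⟩ ⟨b⟩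
        fin_cases a <;> fin_cases b
        · rfl
        · refine (map_zero (I.obj.map _).hom).trans (hs.symm.trans ?_)
          exact Functor.map_comp_apply I.obj (homOfLE (le_top : U' ≤ ⊤)).op
            (homOfLE (inf_le_right : U ⊓ U' ≤ U')).op s
        · refine Eq.trans ?_ (map_zero (I.obj.map _).hom).symm
          refine Eq.trans ?_ ((congrArg (I.obj.map (homOfLE (inf_comm U' U).le).op) hs).trans
            (map_zero (I.obj.map (homOfLE (inf_comm U' U).le).op).hom))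
          refine (Functor.map_comp_apply I.obj _ _ s).symm.trans ?_
          exact Functor.map_comp_apply I.obj
            (homOfLE (inf_le_left.trans (le_top : U ≤ ⊤) : U ⊓ U' ≤ ⊤)).op
            (homOfLE (inf_comm U' U).le).op s
        · rfl)
    obtain ⟨t, ht⟩ := (AddCommGrpCat.epi_iff_surjective _).1
      (hI'.epi (homOfLE (le_top : U ⊔ U' ≤ ⊤)).op) c
    have h1 : I.obj.map (homOfLE (le_top : U ≤ ⊤)).op t = 0 := by
      refine Eq.trans ?_ (hc ⟨0⟩)
      rw [← ht, ← Functor.map_comp_apply]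
      rfl
    have h2 : I.obj.map (homOfLE (le_top : U' ≤ ⊤)).op t =
        I.obj.map (homOfLE (le_top : U' ≤ ⊤)).op s := by
      refine Eq.trans ?_ (hc ⟨1⟩)
      rw [← ht, ← Functor.map_comp_apply]
      rfl
    obtain ⟨ψ₁, hψ₁⟩ := exists_sig (le_top : U ≤ ⊤) t h1
    obtain ⟨ψ₂, hψ₂⟩ := exists_sig (le_top : U' ≤ ⊤) (t - s) (by rw [map_sub, h2, sub_self])
    refine ⟨biprod.desc ψ₁ ψ₂, sig_injective _ _ ?_⟩
    dsimp only [mvSeq]
    rw [biprod.lift_desc, sig_add, Preadditive.neg_comp, ← Preadditive.comp_neg, sig_zqMap,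
      sig_zqMap, hψ₁]
    have : sig (le_top : U' ≤ ⊤) (-ψ₂) = s - t := by
      have e := sig_add (le_top : U' ≤ ⊤) ψ₂ (-ψ₂)
      rw [add_neg_cancel, sig_zero, hψ₂] at e
      rw [eq_neg_of_add_eq_zero_right e.symm, neg_sub]
    rw [this]
    simp [s]
  · apply sig_injective (le_top : U ⊔ U' ≤ ⊤)
    have e' := congrArg (fun ψ => biprod.inl ≫ ψ) e
    simp only [mvSeq, biprod.inl_desc_assoc] at e'
    have e'' := congrArg (sig (le_top : U ≤ ⊤)) e'
    rw [sig_zqMap, sig_zqMap] at e''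
    simpa using e''
  · obtain ⟨φ', rfl⟩ : ∃ φ' : LocCohZ.zq (le_top : U ≤ ⊤) ⊞ LocCohZ.zq (le_top : U' ≤ ⊤) ⟶ B,
        φ' = φ := ⟨φ, rfl⟩
    let s := sig (le_top : U ≤ ⊤) (biprod.inl ≫ φ')
    let s' := sig (le_top : U' ≤ ⊤) (biprod.inr ≫ φ')
    have hss : s = s' := by
      have h0 := congrArg (sig (le_top : U ⊓ U' ≤ ⊤)) (show biprod.lift
        (LocCohZ.zqMap (le_top : U ≤ ⊤) (le_top : U ⊓ U' ≤ ⊤) inf_le_left le_rfl)
        (-LocCohZ.zqMap (le_top : U' ≤ ⊤) (le_top : U ⊓ U' ≤ ⊤) inf_le_right le_rfl) ≫ φ' = 0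
          from hφ)
      rw [biprod.lift_eq, Preadditive.add_comp, sig_add, sig_zero, Category.assoc, sig_zqMap,
        Category.assoc, Preadditive.neg_comp, ← Preadditive.comp_neg, sig_zqMap] at h0
      have e := sig_add (le_top : U' ≤ ⊤) (biprod.inr ≫ φ') (-(biprod.inr ≫ φ'))
      rw [add_neg_cancel, sig_zero] at e
      rw [eq_neg_of_add_eq_zero_right e.symm] at h0
      simpa [s, s', sub_eq_zero, ← sub_eq_add_neg] using h0
    obtain ⟨ψ, hψ⟩ := exists_sig (le_top : U ⊔ U' ≤ ⊤) s (by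
      let B2 : Fin 2 → Opens X := ![U, U']
      refine TopCat.Sheaf.eq_of_locally_eq' (C := AddCommGrpCat.{u}) (X := X) B
        (fun k : ULift.{u} (Fin 2) => B2 k.down) (U ⊔ U')
        (fun k => homOfLE (by rcases k with ⟨k⟩; fin_cases k; exacts [le_sup_left, le_sup_right]))
        (fun x (hx : x ∈ (U : Set X) ∪ U') => hx.elim (fun hx => Opens.mem_iSup.2 ⟨⟨0⟩, hx⟩)
          (fun hx => Opens.mem_iSup.2 ⟨⟨1⟩, hx⟩)) _ _ ?_
      rintro ⟨k⟩
      fin_cases k
      · refine Eq.trans ?_ (map_zero (B.obj.map _).hom).symm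
        refine (Functor.map_comp_apply B.obj _ _ s).symm.trans ?_
        exact sig_res (le_top : U ≤ ⊤) _
      · refine Eq.trans ?_ (map_zero (B.obj.map _).hom).symm
        refine (Functor.map_comp_apply B.obj _ _ s).symm.trans ?_
        rw [hss]
        exact sig_res (le_top : U' ≤ ⊤) _)
    refine ⟨ψ, biprod.hom_ext' _ _ (sig_injective _ _ ?_) (sig_injective _ _ ?_)⟩
    · dsimp only [mvSeq]
      rw [biprod.inl_desc_assoc, sig_zqMap, hψ]
      simp [s]
    · dsimp only [mvSeq]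
      rw [biprod.inr_desc_assoc, sig_zqMap, hψ, hss]
      simp [s']

end ShortExact

end Groth.Agent.LocCohZ46
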