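import Groth.Agent.LocCohZ46.Pairs
import Groth.Agent.LocCohZ46.Open
import Groth.Agent.SiteCoh.ExtRes

/-!
The sheaf of sections with supports as maps out of the sheaves of pairs, and local cohomology
sheaves as sheafified `Ext` presheaves.
-/

universe u

open CategoryTheory CategoryTheory.Limits TopologicalSpace Opposite CategoryTheory.Abelian
open Groth.Agent.TopCoh49

namespace Groth.Agent.LocCohZ46

section Iso

variable {A : Type*} [Category A] [Abelian A] [EnoughInjectives A] {B : Type*} [Category B] [Abelian B]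

/-- Isomorphic functors have isomorphic right derived functors. -/
noncomputable def rightDerivedIso {F G : A ⥤ B} [F.Additive] [G.Additive] (e : F ≅ G) (n : ℕ) :
    F.rightDerived n ≅ G.rightDerived n where
  hom := NatTrans.rightDerived e.hom n
  inv := NatTrans.rightDerived e.inv n
  hom_inv_id := by rw [← NatTrans.rightDerived_comp, e.hom_inv_id, NatTrans.rightDerived_id]
  inv_hom_id := by rw [← NatTrans.rightDerived_comp, e.inv_hom_id, NatTrans.rightDerived_id]

end Iso

variable {X : TopCat.{u}} (U : Opens X)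

/-- `V ↦ ℤ_V/ℤ_{V ⊓ U}`. -/
noncomputable def zqFun : Opens X ⥤ CohTop.Ab X where
  obj V := LocCohZ.zq (inf_le_left : V ⊓ U ≤ V)
  map {V' V} i := LocCohZ.zqMap (inf_le_left : V ⊓ U ≤ V) (inf_le_left : V' ⊓ U ≤ V')
    (inf_le_inf_right U i.le) i.le
  map_id V := zqMap_self _ _ _
  map_comp i j := (zqMap_comp _ _ _ _ _ _ _).symm

section Sections

variable (B : CohTop.Ab X) (V : Opens X)

/-- The unit to the direct image of the restriction, in the category of abelian sheaves. -/
noncomputable def unitU :
    (show CohTop.Ab X from B) ⟶ (CohTop.push (CohCx.incl U)).obj ((CohTop.pull (CohCx.incl U)).obj B) :=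
  (TopCat.Sheaf.pullbackPushforwardAdjunction AddCommGrpCat.{u} (CohCx.incl U)).unit.app B

/-- The inclusion of sections with supports, on sections. -/
noncomputable abbrev suppι :
    (CohCx.sectSupp U B).obj.obj (op V) ⟶ B.obj.obj (op V) :=
  (kernel.ι (unitU U B)).hom.app (op V)

/-- Evaluation at an open. -/
noncomputable abbrev secFun (X : TopCat.{u}) (V : Opens X) : CohTop.Ab X ⥤ AddCommGrpCat.{u} :=
  sheafToPresheaf (Opens.grothendieckTopology X) AddCommGrpCat.{u} ⋙
    (evaluation _ _).obj (op V)

instance preservesFiniteLimits_secFun : PreservesFiniteLimits (secFun X V) := by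
  have : PreservesFiniteLimits
      (sheafToPresheaf (Opens.grothendieckTopology X) AddCommGrpCat.{u}) :=
    ⟨fun J _ _ => (sheafificationAdjunction _ _).rightAdjoint_preservesLimits.preservesLimitsOfShape⟩
  exact comp_preservesFiniteLimits _ _

instance additive_secFun : (secFun X V).Additive where

instance preservesMono_secFun : (secFun X V).PreservesMonomorphisms :=
  preservesMonomorphisms_of_preservesLimitsOfShape _

lemma suppι_injective : Function.Injective (suppι U B V) := by
  have : Mono ((secFun X V).map (kernel.ι (unitU U B))) := inferInstance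
  exact (AddCommGrpCat.mono_iff_injective _).1 this

lemma suppι_res (s : (CohCx.sectSupp U B).obj.obj (op V)) :
    B.obj.map (homOfLE (inf_le_left : V ⊓ U ≤ V)).op (suppι U B V s) = 0 :=
  (unit_app_eq_zero_iff U B V _).1 (ConcreteCategory.congr_hom (NatTrans.congr_app
    (congrArg (fun φ => φ.hom) (kernel.condition (unitU U B)))
    (op V)) s)

lemma exists_suppι (t : B.obj.obj (op V))
    (ht : B.obj.map (homOfLE (inf_le_left : V ⊓ U ≤ V)).op t = 0) :
    ∃ s, suppι U B V s = t := by
  have h := (ShortComplex.exact_of_f_is_kernel (ShortComplex.mk _ _ (kernel.condition (unitU U B)))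
    (kernelIsKernel (unitU U B))).map_of_mono_of_preservesKernel (secFun X V) inferInstance
      inferInstance
  exact (ShortComplex.ab_exact_iff _).1 h t ((unit_app_eq_zero_iff U B V t).2 ht)

/-- The supported section of a map out of `ℤ_V/ℤ_{V ⊓ U}`. -/
noncomputable def suppMap (φ : (zqFun U).obj V ⟶ B) : (CohCx.sectSupp U B).obj.obj (op V) :=
  (exists_suppι U B V (sig (inf_le_left : V ⊓ U ≤ V) φ) (sig_res _ φ)).choose

lemma suppι_suppMap (φ : (zqFun U).obj V ⟶ B) :
    suppι U B V (suppMap U B V φ) = sig (inf_le_left : V ⊓ U ≤ V) φ :=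
  (exists_suppι U B V _ (sig_res (inf_le_left : V ⊓ U ≤ V) φ)).choose_spec

/-- Maps out of `ℤ_V/ℤ_{V ⊓ U}` are sections over `V` with supports off `U`. -/
noncomputable def suppEquiv :
    ((zqFun U).obj V ⟶ B) ≃+ (CohCx.sectSupp U B).obj.obj (op V) :=
  AddEquiv.ofBijective (AddMonoidHom.mk' (suppMap U B V)
    (fun φ ψ => suppι_injective U B V (by
      rw [map_add, suppι_suppMap, suppι_suppMap, suppι_suppMap]
      exact sig_add _ φ ψ)))
    ⟨fun φ ψ e => sig_injective _ _ ((suppι_suppMap U B V φ).symm.trans
      ((congrArg (suppι U B V) e).trans (suppι_suppMap U B V ψ))), fun s => by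
      obtain ⟨φ, hφ⟩ := exists_sig (inf_le_left : V ⊓ U ≤ V) (suppι U B V s) (suppι_res U B V s)
      exact ⟨φ, suppι_injective U B V ((suppι_suppMap U B V φ).trans hφ)⟩⟩

lemma suppι_suppEquiv (φ : (zqFun U).obj V ⟶ B) :
    suppι U B V (suppEquiv U B V φ) = sig (inf_le_left : V ⊓ U ≤ V) φ :=
  suppι_suppMap U B V φ

end Sections

/-- Sections with supports are maps out of the sheaves of pairs. -/
noncomputable def suppPreIso :
    SiteCoh.homPre (zqFun U) ≅
      LocCohZ.sectSuppF U ⋙ sheafToPresheaf (Opens.grothendieckTopology X) AddCommGrpCat.{u} :=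
  NatIso.ofComponents
    (fun B => NatIso.ofComponents (fun V => (suppEquiv U B V.unop).toAddCommGrpIso) (fun {V V'} i => by
      ext φ
      change suppEquiv U B V'.unop ((zqFun U).map i.unop ≫ φ) =
        (CohCx.sectSupp U B).obj.map i (suppEquiv U B V.unop φ)
      apply suppι_injective U B V'.unop
      rw [suppι_suppEquiv]
      refine (sig_zqMap (inf_le_left : V.unop ⊓ U ≤ V.unop) (inf_le_left : V'.unop ⊓ U ≤ V'.unop)
        (inf_le_inf_right U i.unop.le) i.unop.le φ).trans ?_
      refine Eq.trans ?_ ((kernel.ι (unitU U B)).hom.naturality_apply i _).symm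
      exact congrArg (B.obj.map i) (suppι_suppEquiv U B V.unop φ).symm))
    (fun {B B'} g => by
      ext V φ
      change suppEquiv U B' V.unop (φ ≫ g) =
        ((LocCohZ.sectSuppF U).map g).hom.app V (suppEquiv U B V.unop φ)
      apply suppι_injective U B' V.unop
      rw [suppι_suppEquiv]
      refine (sig_comp (inf_le_left : V.unop ⊓ U ≤ V.unop) φ g).trans ?_
      rw [← suppι_suppEquiv U B V.unop φ]
      exact (ConcreteCategory.congr_hom (NatTrans.congr_app (congrArg (fun ψ => ψ.hom)
        (show (LocCohZ.sectSuppF U).map g ≫ kernel.ι (unitU U B') = kernel.ι (unitU U B) ≫ g from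
          kernel.lift_ι _ _ _)) (op V.unop)) _).symm)

/-- Sheaves whose sections are computed by a presheaf-valued functor. -/
noncomputable def sheafifyIso {A : Type*} [Category A] (F : A ⥤ CohTop.Ab X)
    (P : A ⥤ (Opens X)ᵒᵖ ⥤ AddCommGrpCat.{u}) (e : P ≅ F ⋙ sheafToPresheaf _ _) :
    P ⋙ presheafToSheaf (Opens.grothendieckTopology X) AddCommGrpCat.{u} ≅ F :=
  Functor.isoWhiskerRight e _ ≪≫ Functor.associator _ _ _ ≪≫
    Functor.isoWhiskerLeft F (asIso (sheafificationAdjunction (Opens.grothendieckTopology X)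
      AddCommGrpCat.{u}).counit) ≪≫ F.rightUnitor

/-- Right derived functors of a functor given by maps out of a family of sheaves. -/
noncomputable def derivedSheafIso (F : CohTop.Ab X ⥤ CohTop.Ab X) [F.Additive]
    (Z : Opens X ⥤ CohTop.Ab X) (e : SiteCoh.homPre Z ≅ F ⋙ sheafToPresheaf _ _) (q : ℕ) :
    F.rightDerived q ≅
      SiteCoh.extPre Z q ⋙ presheafToSheaf (Opens.grothendieckTopology X) AddCommGrpCat.{u} :=
  rightDerivedIso (sheafifyIso F (SiteCoh.homPre Z) e).symm q ≪≫
    SiteCoh.rightDerivedCompExactIso _ _ q ≪≫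
      Functor.isoWhiskerRight (SiteCoh.rightDerivedHomPreIso Z q) _

/-- Local cohomology sheaves are the sheafified cohomology presheaves with supports. -/
noncomputable def HZshIso (q : ℕ) :
    LocCohZ.HZsh U q ≅
      SiteCoh.extPre (zqFun U) q ⋙
        presheafToSheaf (Opens.grothendieckTopology X) AddCommGrpCat.{u} :=
  derivedSheafIso _ (zqFun U) (suppPreIso U) q

end Groth.Agent.LocCohZ46
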