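import Groth.Agent.LocCohZ46.Basic
import Groth.Agent.LocCohZ46.Derived
import Groth.Agent.GSS45.Composite
import Groth.Prelude.Def_SpSeq

/-!
Restriction followed by direct image, and the spectral sequences of cohomology with supports.
-/

universe u

open CategoryTheory CategoryTheory.Limits TopologicalSpace Opposite CategoryTheory.Abelian
open Groth.Agent.TopCoh49

namespace Groth.Agent.LocCohZ46

variable {X Y : TopCat.{u}}

instance additive_restr_push (U : Opens X) {Z : TopCat.{u}} (g : TopCat.of U ⟶ Z) :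
    (CohTop.restrFunctor U ⋙ CohTop.push g).Additive where
  map_add {F G φ ψ} := rfl

instance additive_push_incl (U : Opens X) : (CohTop.push (CohCx.incl U)).Additive where
  map_add {F G φ ψ} := rfl

/-- Derived functors of restriction to an open followed by direct image. -/
noncomputable def restrPushIso (U : Opens X) (q : ℕ) :
    (CohTop.restrFunctor U ⋙ CohTop.push (CohCx.incl U)).rightDerived q ≅
      CohTop.restrFunctor U ⋙ CohTop.Rpush (CohCx.incl U) q :=
  rightDerivedPreExactIso (CohTop.restrFunctor U) (fun I _ => injective_restr U I) _ q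

theorem nonempty_RpushOn_iso (U : Opens X) (q : ℕ) :
    Nonempty (CohCx.RpushOn (𝟙 X) U q ≅ CohTop.restrFunctor U ⋙ CohTop.Rpush (CohCx.incl U) q) :=
  ⟨rightDerivedIso (Functor.isoWhiskerLeft (CohTop.restrFunctor U)
    (eqToIso (congrArg CohTop.push (Category.comp_id (CohCx.incl U))))) q ≪≫ restrPushIso U q⟩

section Supports

variable (V : Opens X)

/-- Global sections. -/
noncomputable abbrev topSec (X : TopCat.{u}) : CohTop.Ab X ⥤ AddCommGrpCat.{u} :=
  secFun X ⊤

/-- Derived functors of global sections are cohomology. -/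
noncomputable def topSecIso (q : ℕ) :
    (topSec X).rightDerived q ≅ SiteCoh.extPre (freeFun X) q ⋙ (evaluation _ _).obj (op ⊤) :=
  SiteCoh.rightDerivedCompExactIso (sheafToPresheaf _ _) _ q ≪≫
    Functor.isoWhiskerRight (rightDerivedIso (homPreIso' X).symm q ≪≫
      SiteCoh.rightDerivedHomPreIso (freeFun X) q) _
where
  /-- Maps out of free sheaves are sections. -/
  homPreIso' (X : TopCat.{u}) :
      SiteCoh.homPre (freeFun X) ≅ sheafToPresheaf (Opens.grothendieckTopology X) AddCommGrpCat.{u} :=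
    NatIso.ofComponents
      (fun F => NatIso.ofComponents (fun U => (freeHomAddEquiv U.unop F).toAddCommGrpIso)
        (fun i => by ext φ; exact freeHomEquiv_precomp i.unop φ))
      (fun g => by ext U φ; exact freeHomEquiv_comp U.unop φ g)

lemma isZero_rightDerived_topSec_of_isFlasque (F : CohTop.Ab X) [TopCat.Sheaf.IsFlasque F] (q : ℕ) :
    IsZero (((topSec X).rightDerived (q + 1)).obj F) := by
  have := subsingleton_E_of_isFlasque q F ⊤
  refine IsZero.of_iso ?_ ((topSecIso (q + 1)).app F)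
  exact AddCommGrpCat.isZero_of_subsingleton (AddCommGrpCat.of (E F (q + 1) ⊤))

/-- Derived functors of global sections with supports. -/
noncomputable def gammaZIso (n : ℕ) :
    LocCohZ.RHZ V n ≅ ToposFin.HZFunctor (LocCohZ.openSh V) n :=
  (nonempty_RHZ_iso V n).some

theorem exists_spectralSequence_sheaves (F : CohTop.Ab X) :
    ∃ (E : E₂CohomologicalSpectralSequence AddCommGrpCat.{u})
      (a : SpSeq.Abutment E (fun n : ℤ =>
        if 0 ≤ n then AddCommGrpCat.of (LocCohZ.HZc F n.toNat V) else AddCommGrpCat.of PUnit.{u + 1})),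
      (∀ n : ℤ, a.IsFinite n) ∧ SpSeq.IsBounded E ∧
      ∀ p q : ℤ, Nonempty ((E.page 2 le_rfl).X (p, q) ≅
        (if 0 ≤ p ∧ 0 ≤ q then AddCommGrpCat.of (CohTop.HU ((LocCohZ.HZsh V q.toNat).obj F) p.toNat ⊤)
          else AddCommGrpCat.of PUnit.{u + 1})) := by
  refine GSS45.exists_spectralSequence_comp (LocCohZ.sectSuppF V) (topSec X) (fun Q hQ q hq => ?_) F
    (fun n => ?_) (fun n hn => ?_) (fun p q => ?_) (fun p q h => ?_)
  · obtain ⟨q, rfl⟩ := Nat.exists_eq_succ_of_ne_zero hq.ne'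
    have := isFlasque_of_injective Q
    have : TopCat.Sheaf.IsFlasque ((LocCohZ.sectSuppF V).obj Q) := isFlasque_sectSupp Q V
    exact isZero_rightDerived_topSec_of_isFlasque _ q
  · rw [if_pos (Int.natCast_nonneg n)]
    exact ⟨(gammaZIso V n).app F ≪≫ (LocCohZ.HZcEquivHZFunctor F n V).symm.toAddCommGrpIso⟩
  · rw [if_neg (not_le.2 hn)]
    exact AddCommGrpCat.isZero_of_subsingleton _
  · rw [if_pos ⟨Int.natCast_nonneg p, Int.natCast_nonneg q⟩]
    exact ⟨(topSecIso p).app ((LocCohZ.HZsh V q).obj F)⟩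
  · rw [if_neg (by omega)]
    exact AddCommGrpCat.isZero_of_subsingleton _

end Supports

section Push

variable (f : X ⟶ Y) (V : Opens Y)

lemma map_inf_top : (Opens.map f).obj (⊤ ⊓ V) = ⊤ ⊓ (Opens.map f).obj V := rfl

/-- A map out of the sheaf of a pair on `Y` into a direct image, on `X`. -/
noncomputable def pushPair (F : CohTop.Ab X)
    (φ : (zqFun V).obj ⊤ ⟶ (CohTop.push f).obj F) : (zqFun ((Opens.map f).obj V)).obj ⊤ ⟶ F :=
  (exists_sig (inf_le_left : ⊤ ⊓ (Opens.map f).obj V ≤ ⊤)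
    (sig (inf_le_left : ⊤ ⊓ V ≤ ⊤) φ) (sig_res (inf_le_left : ⊤ ⊓ V ≤ ⊤) φ)).choose

lemma sig_pushPair (F : CohTop.Ab X) (φ : (zqFun V).obj ⊤ ⟶ (CohTop.push f).obj F) :
    sig (inf_le_left : ⊤ ⊓ (Opens.map f).obj V ≤ ⊤) (pushPair f V F φ) =
      sig (inf_le_left : ⊤ ⊓ V ≤ ⊤) φ :=
  (exists_sig (inf_le_left : ⊤ ⊓ (Opens.map f).obj V ≤ ⊤)
    (sig (inf_le_left : ⊤ ⊓ V ≤ ⊤) φ) (sig_res (inf_le_left : ⊤ ⊓ V ≤ ⊤) φ)).choose_spec

/-- Sections with supports of a direct image. -/
noncomputable def pushPairIso :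
    CohTop.push f ⋙ SiteCoh.homPre (zqFun V) ⋙ (evaluation _ _).obj (op ⊤) ≅
      SiteCoh.homPre (zqFun ((Opens.map f).obj V)) ⋙ (evaluation _ _).obj (op ⊤) :=
  NatIso.ofComponents
    (fun F => (AddEquiv.ofBijective (AddMonoidHom.mk' (pushPair f V F) (fun φ ψ => by
        apply sig_injective
        refine (sig_pushPair f V F (φ + ψ)).trans ?_
        refine (sig_add (inf_le_left : ⊤ ⊓ V ≤ ⊤) φ ψ).trans ?_
        refine Eq.trans ?_
          (sig_add (inf_le_left : ⊤ ⊓ (Opens.map f).obj V ≤ ⊤) (pushPair f V F φ) (pushPair f V F ψ)).symm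
        rw [sig_pushPair, sig_pushPair]
        rfl))
      ⟨fun φ ψ e => sig_injective _ _ ((sig_pushPair f V F φ).symm.trans
        ((congrArg (sig _) e).trans (sig_pushPair f V F ψ))), fun χ => by
        obtain ⟨φ, hφ⟩ := exists_sig (B := (CohTop.push f).obj F) (inf_le_left : ⊤ ⊓ V ≤ ⊤)
          (sig (inf_le_left : ⊤ ⊓ (Opens.map f).obj V ≤ ⊤) χ) (sig_res _ χ)
        exact ⟨φ, sig_injective _ _ ((sig_pushPair f V F φ).trans hφ)⟩⟩).toAddCommGrpIso)
    (fun {F G} g => by
      ext φ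
      change pushPair f V G (φ ≫ (CohTop.push f).map g) = pushPair f V F φ ≫ g
      apply sig_injective
      refine (sig_pushPair f V G (φ ≫ (CohTop.push f).map g)).trans ?_
      refine (sig_comp (inf_le_left : ⊤ ⊓ V ≤ ⊤) φ _).trans ?_
      refine Eq.trans ?_ (sig_comp (inf_le_left : ⊤ ⊓ (Opens.map f).obj V ≤ ⊤) _ g).symm
      rw [sig_pushPair]
      rfl)

/-- Global sections with supports of a direct image. -/
noncomputable def pushGammaIso :
    CohTop.push f ⋙ LocCohZ.gammaZF V ≅ LocCohZ.gammaZF ((Opens.map f).obj V) :=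
  Functor.isoWhiskerLeft _ (e V) ≪≫ pushPairIso f V ≪≫ (e ((Opens.map f).obj V)).symm
where
  /-- Global sections with supports as maps out of a pair sheaf. -/
  e {Z : TopCat.{u}} (V : Opens Z) :
      LocCohZ.gammaZF V ≅ SiteCoh.homPre (zqFun V) ⋙ (evaluation _ _).obj (op ⊤) :=
    (Functor.associator _ _ _).symm ≪≫ Functor.isoWhiskerRight (suppPreIso V).symm _

theorem exists_spectralSequence_push (F : CohTop.Ab X) :
    ∃ (E : E₂CohomologicalSpectralSequence AddCommGrpCat.{u})
      (a : SpSeq.Abutment E (fun n : ℤ =>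
        if 0 ≤ n then AddCommGrpCat.of (LocCohZ.HZc F n.toNat ((Opens.map f).obj V))
          else AddCommGrpCat.of PUnit.{u + 1})),
      (∀ n : ℤ, a.IsFinite n) ∧ SpSeq.IsBounded E ∧
      ∀ p q : ℤ, Nonempty ((E.page 2 le_rfl).X (p, q) ≅
        (if 0 ≤ p ∧ 0 ≤ q then AddCommGrpCat.of (LocCohZ.HZc ((CohTop.Rpush f q.toNat).obj F) p.toNat V)
          else AddCommGrpCat.of PUnit.{u + 1})) := by
  have : PreservesFiniteLimits (LocCohZ.gammaZF V) := by
    have : PreservesFiniteLimits (SiteCoh.homPre (zqFun V) ⋙ (evaluation _ _).obj (op ⊤)) := by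
      have : PreservesFiniteLimits (preadditiveCoyoneda.obj (op ((zqFun V).obj ⊤))) := inferInstance
      exact preservesFiniteLimits_of_natIso (F := preadditiveCoyoneda.obj (op ((zqFun V).obj ⊤)))
        (NatIso.ofComponents (fun B => Iso.refl _))
    exact preservesFiniteLimits_of_natIso (pushGammaIso.e V).symm
  refine GSS45.exists_spectralSequence_comp (CohTop.push f) (LocCohZ.gammaZF V) (fun Q hQ q hq => ?_) F
    (fun n => ?_) (fun n hn => ?_) (fun p q => ?_) (fun p q h => ?_)
  · obtain ⟨q, rfl⟩ := Nat.exists_eq_succ_of_ne_zero hq.ne'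
    have := injective_push f Q hQ
    exact Functor.isZero_rightDerived_obj_injective_succ _ q ((CohTop.push f).obj Q)
  · rw [if_pos (Int.natCast_nonneg n)]
    exact ⟨(rightDerivedIso (pushGammaIso f V) n).app F ≪≫ (gammaZIso _ n).app F ≪≫
      (LocCohZ.HZcEquivHZFunctor F n _).symm.toAddCommGrpIso⟩
  · rw [if_neg (not_le.2 hn)]
    exact AddCommGrpCat.isZero_of_subsingleton _
  · rw [if_pos ⟨Int.natCast_nonneg p, Int.natCast_nonneg q⟩]
    exact ⟨(gammaZIso V p).app _ ≪≫
      (LocCohZ.HZcEquivHZFunctor ((CohTop.Rpush f q).obj F) p V).symm.toAddCommGrpIso⟩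
  · rw [if_neg (by omega)]
    exact AddCommGrpCat.isZero_of_subsingleton _

end Push

end Groth.Agent.LocCohZ46
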