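import Groth.Agent.LocCohZ46.Spectral
import Groth.Agent.CohDer42.GrothColim

/-!
Local cohomology sheaves in positive degrees and higher direct images from the open complement.
-/

universe u

open CategoryTheory CategoryTheory.Limits TopologicalSpace Opposite CategoryTheory.Abelian
open Groth.Agent.TopCoh49

namespace Groth.Agent.LocCohZ46

variable {X : TopCat.{u}} (U : Opens X)

/-- `V ↦ ℤ_{V ⊓ U}`. -/
noncomputable def openFun : Opens X ⥤ CohTop.Ab X where
  obj V := freeU (V ⊓ U)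
  map i := (freeFun X).map (homOfLE (inf_le_inf_right U i.le))
  map_id V := (freeFun X).map_id _
  map_comp i j := by
    rw [← Functor.map_comp]
    rfl

lemma pairClass_natural {W V W' V' : Opens X} (h : W ≤ V) (h' : W' ≤ V') (hW : W' ≤ W)
    (hV : V' ≤ V) :
    (pairClass h').comp (Ext.mk₀ ((freeFun X).map (homOfLE hW))) (add_zero 1) =
      (Ext.mk₀ (LocCohZ.zqMap h h' hW hV)).comp (pairClass h) (zero_add 1) :=
  (pairSeq_shortExact h').extClass_naturality (pairSeq_shortExact h)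
    { τ₁ := (freeFun X).map (homOfLE hW)
      τ₂ := (freeFun X).map (homOfLE hV)
      τ₃ := LocCohZ.zqMap h h' hW hV
      comm₁₂ := by
        dsimp only [pairSeq]
        rw [← Functor.map_comp, ← Functor.map_comp]
        rfl
      comm₂₃ := (zqπ_zqMap h h' hW hV).symm }

lemma dl_natural {W V W' V' : Opens X} (h : W ≤ V) (h' : W' ≤ V') (hW : W' ≤ W) (hV : V' ≤ V)
    (F : CohTop.Ab X) (i : ℕ) (x : E F i W) :
    dl h' F i (eres F i hW x) =
      (Ext.mk₀ (LocCohZ.zqMap h h' hW hV)).comp (dl h F i x) (zero_add (i + 1)) := by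
  change (pairClass h').comp ((Ext.mk₀ ((freeFun X).map (homOfLE hW))).comp x (zero_add i))
      (add_comm 1 i) =
    (Ext.mk₀ (LocCohZ.zqMap h h' hW hV)).comp ((pairClass h).comp x (add_comm 1 i)) (zero_add (i + 1))
  rw [← Ext.comp_assoc (pairClass h') _ x (add_zero 1) (zero_add i) (by omega), pairClass_natural h h' hW hV,
    Ext.comp_assoc (Ext.mk₀ _) (pairClass h) x (zero_add 1) (add_comm 1 i) (by omega)]

lemma toE_natural {W V W' V' : Opens X} (h : W ≤ V) (h' : W' ≤ V') (hW : W' ≤ W) (hV : V' ≤ V)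
    (F : CohTop.Ab X) (i : ℕ) (z : Hz h F i) :
    toE h' F i ((Ext.mk₀ (LocCohZ.zqMap h h' hW hV)).comp z (zero_add i)) =
      eres F i hV (toE h F i z) := by
  change (Ext.mk₀ (zqπ h')).comp ((Ext.mk₀ _).comp z (zero_add i)) (zero_add i) =
    (Ext.mk₀ _).comp ((Ext.mk₀ (zqπ h)).comp z (zero_add i)) (zero_add i)
  rw [Ext.mk₀_comp_mk₀_assoc, Ext.mk₀_comp_mk₀_assoc, zqπ_zqMap]

lemma eres_eres (F : CohTop.Ab X) (i : ℕ) {A B C : Opens X} (h₁ : B ≤ A) (h₂ : C ≤ B) (x : E F i A) :
    eres F i h₂ (eres F i h₁ x) = eres F i (h₂.trans h₁) x := by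
  change (Ext.mk₀ _).comp ((Ext.mk₀ _).comp x (zero_add i)) (zero_add i) =
    (Ext.mk₀ _).comp x (zero_add i)
  rw [Ext.mk₀_comp_mk₀_assoc, ← Functor.map_comp]
  rfl

/-- The connecting maps, for all opens at once. -/
noncomputable def deltaNat (i : ℕ) :
    SiteCoh.extPre (openFun U) i ⟶ SiteCoh.extPre (zqFun U) (i + 1) where
  app F :=
    { app := fun V => AddCommGrpCat.ofHom (dl (inf_le_left : V.unop ⊓ U ≤ V.unop) F i)
      naturality := fun V V' f => by
        ext x
        exact dl_natural (inf_le_left : V.unop ⊓ U ≤ V.unop) (inf_le_left : V'.unop ⊓ U ≤ V'.unop)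
          (inf_le_inf_right U f.unop.le) f.unop.le F i x }
  naturality F G g := by
    ext V x
    exact (Ext.comp_assoc_of_third_deg_zero (pairClass (inf_le_left : V.unop ⊓ U ≤ V.unop)) x
      (Ext.mk₀ g) (add_comm 1 i)).symm

lemma isLocallyInjective_deltaNat (i : ℕ) (F : CohTop.Ab X) :
    Presheaf.IsLocallyInjective (Opens.grothendieckTopology X) ((deltaNat U (i + 1)).app F) where
  equalizerSieve_mem := by
    rintro ⟨V⟩ x y hxy p hp
    have h0 : dl (inf_le_left : V ⊓ U ≤ V) F (i + 1) (x - y) = 0 :=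
      (map_sub _ x y).trans (sub_eq_zero.2 hxy)
    obtain ⟨w, hw⟩ := exact_HW (inf_le_left : V ⊓ U ≤ V) F _ h0
    obtain ⟨V', hV', hsup, hk⟩ := kill_class i F V w
    obtain ⟨k, hk'⟩ := Opens.mem_iSup.1 (hsup.ge hp)
    refine ⟨V' k, homOfLE (hV' k), ?_, hk'⟩
    refine sub_eq_zero.1 (Eq.trans (map_sub (eres F (i + 1) (inf_le_inf_right U (hV' k))) x y).symm ?_)
    refine Eq.trans (congrArg (eres F (i + 1) (inf_le_inf_right U (hV' k))) hw.symm) ?_
    rw [eres_eres, ← eres_eres F (i + 1) (hV' k) (inf_le_left : V' k ⊓ U ≤ V' k) w, hk k, map_zero]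
    rfl

instance isLocallySurjective_deltaNat (i : ℕ) (F : CohTop.Ab X) :
    Presheaf.IsLocallySurjective (Opens.grothendieckTopology X) ((deltaNat U i).app F) where
  imageSieve_mem := by
    intro V z p hp
    obtain ⟨V', hV', hsup, hk⟩ := kill_class i F V (toE (inf_le_left : V ⊓ U ≤ V) F (i + 1) z)
    obtain ⟨k, hk'⟩ := Opens.mem_iSup.1 (hsup.ge hp)
    refine ⟨V' k, homOfLE (hV' k), ?_, hk'⟩
    obtain ⟨w, hw⟩ := exact_HZ (inf_le_left : V' k ⊓ U ≤ V' k) F
      ((Ext.mk₀ ((zqFun U).map (homOfLE (hV' k)))).comp z (zero_add (i + 1)))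
      ((toE_natural (inf_le_left : V ⊓ U ≤ V) (inf_le_left : V' k ⊓ U ≤ V' k)
        (inf_le_inf_right U (hV' k)) (hV' k) F (i + 1) z).trans (hk k))
    exact ⟨w, hw⟩

/-- `V ↦ Hom(ℤ_{V ⊓ U}, F)` is the direct image of the restriction. -/
noncomputable def openPreIso :
    SiteCoh.homPre (openFun U) ≅ (CohTop.restrFunctor U ⋙ CohTop.push (CohCx.incl U)) ⋙
      sheafToPresheaf (Opens.grothendieckTopology X) AddCommGrpCat.{u} :=
  NatIso.ofComponents
    (fun F => NatIso.ofComponents
      (fun V => (freeHomAddEquiv (V.unop ⊓ U) F).toAddCommGrpIso ≪≫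
        F.obj.mapIso (eqToIso (imU_map U V.unop).symm).op.symm)
      (fun {V V'} f => by
        ext φ
        exact (congrArg (F.obj.map (eqToIso (imU_map U V'.unop).symm).op.inv)
          (freeHomEquiv_precomp (homOfLE (inf_le_inf_right U f.unop.le)) φ)).trans
            (map_map_eq F _ _ _ _ _)))
    (fun {F G} g => by
      ext V φ
      exact (congrArg (G.obj.map (eqToIso (imU_map U V.unop).symm).op.inv)
        (freeHomEquiv_comp (V.unop ⊓ U) φ g)).trans (g.hom.naturality_apply _ _).symm)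

/-- Local cohomology sheaves in degrees at least two. -/
theorem nonempty_HZsh_succ_iso (i : ℕ) (hi : 1 ≤ i) :
    Nonempty (LocCohZ.HZsh U (i + 1) ≅
      CohTop.pull (CohCx.incl U) ⋙ CohTop.Rpush (CohCx.incl U) i) := by
  obtain ⟨i, rfl⟩ : ∃ j, i = j + 1 := ⟨i - 1, by omega⟩
  let L := presheafToSheaf (Opens.grothendieckTopology X) AddCommGrpCat.{u}
  have : ∀ F, IsIso ((Functor.whiskerRight (deltaNat U (i + 1)) L).app F) := fun F => by
    have := isLocallyInjective_deltaNat U i F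
    exact ((Opens.grothendieckTopology X).W_iff _).1
      ((Opens.grothendieckTopology X).W_of_isLocallyBijective ((deltaNat U (i + 1)).app F))
  have := NatIso.isIso_of_isIso_app (Functor.whiskerRight (deltaNat U (i + 1)) L)
  exact ⟨HZshIso U (i + 1 + 1) ≪≫
    (@asIso _ _ _ _ (Functor.whiskerRight (deltaNat U (i + 1)) L) this).symm ≪≫
    (derivedSheafIso _ (openFun U) (openPreIso U) (i + 1)).symm ≪≫ restrPushIso U (i + 1) ≪≫
    Functor.isoWhiskerRight ((TopCat.Sheaf.pullbackPushforwardAdjunction AddCommGrpCat.{u}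
      (CohCx.incl U)).leftAdjointUniq (restrAdj U)).symm _⟩

section DegreeOne

/-- `Ext^0` is `Hom`. -/
noncomputable def extZeroIso (Z : Opens X ⥤ CohTop.Ab X) :
    SiteCoh.extPre Z 0 ≅ SiteCoh.homPre Z :=
  NatIso.ofComponents
    (fun F => NatIso.ofComponents
      (fun V => (Ext.addEquiv₀ (X := Z.obj V.unop) (Y := F)).toAddCommGrpIso)
      (fun {V V'} f => by
        ext x
        obtain ⟨φ, rfl⟩ := (Ext.mk₀_bijective _ _).2 x
        exact ((congrArg Ext.addEquiv₀ (Ext.mk₀_comp_mk₀ (Z.map f.unop) φ)).trans (addEquiv₀_mk₀ _)).trans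
          (congrArg (Z.map f.unop ≫ ·) (addEquiv₀_mk₀ φ)).symm))
    (fun {F G} g => by
      ext V x
      obtain ⟨φ, rfl⟩ := (Ext.mk₀_bijective _ _).2 x
      exact ((congrArg Ext.addEquiv₀ (Ext.mk₀_comp_mk₀ φ g)).trans (addEquiv₀_mk₀ _)).trans
        (congrArg (· ≫ g) (addEquiv₀_mk₀ φ)).symm)

/-- Restriction in degree zero. -/
noncomputable def resNat : SiteCoh.extPre (freeFun X) 0 ⟶ SiteCoh.extPre (openFun U) 0 where
  app F :=
    { app := fun V => AddCommGrpCat.ofHom (eres F 0 (inf_le_left : V.unop ⊓ U ≤ V.unop))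
      naturality := fun V V' f => by
        ext x
        exact (eres_eres F 0 f.unop.le inf_le_left x).trans
          (eres_eres F 0 inf_le_left (inf_le_inf_right U f.unop.le) x).symm }
  naturality F G g := by
    ext V x
    exact (Ext.comp_assoc_of_second_deg_zero (Ext.mk₀ ((freeFun X).map (homOfLE (inf_le_left : V.unop ⊓ U ≤ V.unop))))
      x (Ext.mk₀ g) (zero_add 0)).symm

lemma resNat_deltaNat : resNat U ≫ deltaNat U 0 = 0 := by
  ext F V x
  exact dl_eres (inf_le_left : V.unop ⊓ U ≤ V.unop) F x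

/-- Sheafified morphisms of presheaves computing morphisms of sheaf-valued functors. -/
lemma sheafifyIso_natural {A : Type*} [Category A] {F G : A ⥤ CohTop.Ab X}
    {P Q : A ⥤ (Opens X)ᵒᵖ ⥤ AddCommGrpCat.{u}} (eP : P ≅ F ⋙ sheafToPresheaf _ _)
    (eQ : Q ≅ G ⋙ sheafToPresheaf _ _) (a : P ⟶ Q) (τ : F ⟶ G)
    (h : a ≫ eQ.hom = eP.hom ≫ Functor.whiskerRight τ _) :
    Functor.whiskerRight a (presheafToSheaf _ _) ≫ (sheafifyIso G Q eQ).hom =
      (sheafifyIso F P eP).hom ≫ τ := by
  ext F' : 2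
  have hn := (sheafificationAdjunction (Opens.grothendieckTopology X) AddCommGrpCat.{u}).counit.naturality
    (τ.app F')
  have h' := congrArg (fun φ => (presheafToSheaf (Opens.grothendieckTopology X) AddCommGrpCat.{u}).map φ)
    (NatTrans.congr_app h F')
  simp only [NatTrans.comp_app, Functor.map_comp, Functor.whiskerRight_app] at h'
  simp only [sheafifyIso, Iso.trans_hom, NatTrans.comp_app, Functor.isoWhiskerRight_hom,
    Functor.whiskerRight_app, Functor.isoWhiskerLeft_hom, Functor.whiskerLeft_app, asIso_hom,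
    Functor.associator_hom_app, Functor.rightUnitor_hom_app, Category.id_comp]
  rw [reassoc_of% h', Category.assoc]
  exact congrArg _ hn

/-- Local cohomology sheaves in degree one. -/
theorem nonempty_HZsh_one_iso :
    Nonempty (LocCohZ.HZsh U 1 ≅
      cokernel (TopCat.Sheaf.pullbackPushforwardAdjunction AddCommGrpCat.{u} (CohCx.incl U)).unit) := by
  let L := presheafToSheaf (Opens.grothendieckTopology X) AddCommGrpCat.{u}
  let a := Functor.whiskerRight (resNat U) L
  let b := Functor.whiskerRight (deltaNat U 0) L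
  have hab : a ≫ b = 0 := by
    ext F : 2
    refine (L.map_comp _ _).symm.trans ?_
    rw [← NatTrans.comp_app, resNat_deltaNat]
    exact L.map_zero _ _
  have hex : (ShortComplex.mk a b hab).Exact := by
    apply CohDer42.exact_of_evaluation
    intro F
    have h : (ShortComplex.mk ((resNat U).app F) ((deltaNat U 0).app F)
        (by rw [← NatTrans.comp_app, resNat_deltaNat]; rfl)).Exact := by
      apply CohDer42.exact_of_evaluation
      intro V
      rw [ShortComplex.ab_exact_iff]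
      exact fun x hx => exact_HW (inf_le_left : V.unop ⊓ U ≤ V.unop) F x hx
    exact h.map L
  have : ∀ F, Epi (b.app F) := fun F =>
    (Sheaf.isLocallySurjective_iff_epi' AddCommGrpCat.{u} _).1
      ((Presheaf.isLocallySurjective_presheafToSheaf_map_iff _ _).2 inferInstance)
  have : Epi b := NatTrans.epi_of_epi_app b
  let e₁ : SiteCoh.extPre (freeFun X) 0 ≅ 𝟭 (CohTop.Ab X) ⋙ sheafToPresheaf _ _ :=
    extZeroIso (freeFun X) ≪≫ topSecIso.homPreIso' X ≪≫ (Functor.leftUnitor _).symm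
  let e₂ := extZeroIso (openFun U) ≪≫ openPreIso U
  have hsq : resNat U ≫ e₂.hom = e₁.hom ≫ Functor.whiskerRight (unitRes U) _ := by
    ext F V x
    obtain ⟨φ, rfl⟩ := (Ext.mk₀_bijective _ _).2 x
    change F.obj.map _ (freeHomEquiv (V.unop ⊓ U) F (Ext.addEquiv₀ ((Ext.mk₀ _).comp (Ext.mk₀ φ) (zero_add 0)))) =
      F.obj.map _ (freeHomEquiv V.unop F (Ext.addEquiv₀ (Ext.mk₀ φ)))
    rw [Ext.mk₀_comp_mk₀, addEquiv₀_mk₀, addEquiv₀_mk₀, freeHomEquiv_precomp,
      ← Functor.map_comp_apply]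
    rfl
  have hsq' := sheafifyIso_natural e₁ e₂ (resNat U) (unitRes U) hsq
  let adj := TopCat.Sheaf.pullbackPushforwardAdjunction AddCommGrpCat.{u} (CohCx.incl U)
  exact ⟨HZshIso U 1 ≪≫
    (hex.gIsCokernel.coconePointUniqueUpToIso (cokernelIsCokernel a)) ≪≫
    cokernel.mapIso a (unitRes U) (sheafifyIso _ _ e₁) (sheafifyIso _ _ e₂) hsq' ≪≫
    (cokernel.mapIso adj.unit (unitRes U) (Iso.refl _)
      (Functor.isoWhiskerRight (adj.leftAdjointUniq (restrAdj U)) _) (by
        exact (adj.unit_leftAdjointUniq_hom (restrAdj U)).trans (Category.id_comp (unitRes U)).symm)).symm⟩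

end DegreeOne

end Groth.Agent.LocCohZ46
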